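import Groth.Prelude.Def_QuadSing
import Mathlib.LinearAlgebra.Matrix.ToLinearEquiv
import Mathlib.LinearAlgebra.Matrix.Nondegenerate
import Mathlib.FieldTheory.IsAlgClosed.Basic
import Mathlib.Algebra.CharP.Two
import Mathlib.RingTheory.Localization.AtPrime.Basic
import Mathlib.Algebra.MvPolynomial.CommRing
import Mathlib.RingTheory.MvPolynomial.Basic
import Mathlib.RingTheory.Flat.Basic

/-!
# Ordinary versus non-degenerate quadratic forms

* `quadEval_add`, `quadEval_smul` : the polarisation identity for coefficient tables;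
* `quadNondeg_of_quadOrd` : over an algebraically closed field, `QuadOrd` implies `QuadNondeg` if
  `2` is invertible or the number of variables is even;
* `not_quadNondeg` : in characteristic two and an odd number of variables no table is `QuadNondeg`;
* the corresponding statements for `IsOrdQuadSing`, `IsOrdQuadPt`.
-/

set_option autoImplicit false
universe u

open VanCyc Matrix

namespace Groth.Agent.Vancyc.H694.OrdNondeg

section Ring

variable {R : Type u} [CommRing R] {N : ℕ} (a : Fin N → Fin N → R)

lemma polarMatrix_eq (i j : Fin N) :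
    polarMatrix a i j = (if i ≤ j then a i j else 0) + (if j ≤ i then a j i else 0) := by
  unfold polarMatrix
  rcases lt_trichotomy i j with h | h | h
  · simp [h.ne, h, h.le, not_le.2 h]
  · subst h
    simp [two_mul]
  · simp [h.ne', h.le, not_le.2 h, not_lt.2 h.le]

lemma polarMatrix_symm (i j : Fin N) : polarMatrix a i j = polarMatrix a j i := by
  rw [polarMatrix_eq, polarMatrix_eq, add_comm]

lemma quadEval_add (v w : Fin N → R) :
    quadEval a (v + w) = quadEval a v + quadEval a w + v ⬝ᵥ (polarMatrix a).mulVec w := by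
  have h1 : v ⬝ᵥ (polarMatrix a).mulVec w =
      ∑ i : Fin N, ∑ j : Fin N, (if i ≤ j then a i j * v i * w j else 0) +
      ∑ i : Fin N, ∑ j : Fin N, (if i ≤ j then a i j * w i * v j else 0) := by
    have h2 : ∑ i : Fin N, ∑ j : Fin N, (if i ≤ j then a i j * w i * v j else 0) =
        ∑ i : Fin N, ∑ j : Fin N, (if j ≤ i then a j i * w j * v i else 0) := by
      rw [Finset.sum_comm]
    rw [h2, ← Finset.sum_add_distrib]
    simp only [dotProduct, mulVec, Finset.mul_sum]
    refine Finset.sum_congr rfl fun i _ => ?_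
    rw [← Finset.sum_add_distrib]
    refine Finset.sum_congr rfl fun j _ => ?_
    rw [polarMatrix_eq]
    split_ifs <;> ring
  rw [h1]
  unfold quadEval
  rw [← Finset.sum_add_distrib, ← Finset.sum_add_distrib, ← Finset.sum_add_distrib]
  refine Finset.sum_congr rfl fun i _ => ?_
  rw [← Finset.sum_add_distrib, ← Finset.sum_add_distrib, ← Finset.sum_add_distrib]
  refine Finset.sum_congr rfl fun j _ => ?_
  simp only [Pi.add_apply]
  split_ifs <;> ring

lemma quadEval_smul (s : R) (v : Fin N → R) : quadEval a (s • v) = s ^ 2 * quadEval a v := by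
  unfold quadEval
  rw [Finset.mul_sum]
  refine Finset.sum_congr rfl fun i _ => ?_
  rw [Finset.mul_sum]
  refine Finset.sum_congr rfl fun j _ => ?_
  simp only [Pi.smul_apply, smul_eq_mul]
  split_ifs <;> ring

/-- Two times the value of a quadratic form. -/
lemma two_mul_quadEval (v : Fin N → R) :
    2 * quadEval a v = v ⬝ᵥ (polarMatrix a).mulVec v := by
  have h := quadEval_add a v v
  have h2 : v + v = (2 : R) • v := by rw [two_smul]
  rw [h2, quadEval_smul] at h
  linear_combination h

end Ring

section Alt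

/-- The generic alternating matrix. -/
noncomputable def gen (N : ℕ) : Matrix (Fin N) (Fin N) (MvPolynomial (Fin N × Fin N) ℤ) :=
  fun i j => if i < j then MvPolynomial.X (i, j) else if j < i then - MvPolynomial.X (j, i) else 0

lemma gen_transpose (N : ℕ) : (gen N)ᵀ = - gen N := by
  refine Matrix.ext fun i j => ?_
  rw [transpose_apply, Matrix.neg_apply]
  unfold gen
  rcases lt_trichotomy i j with h | h | h
  · rw [if_neg (not_lt.2 h.le), if_pos h, if_pos h]
  · subst h; simp
  · rw [if_pos h, if_neg (not_lt.2 h.le), if_pos h, neg_neg]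

lemma det_gen {N : ℕ} (hN : Odd N) : (gen N).det = 0 := by
  have h : (gen N).det = - (gen N).det := by
    conv_lhs => rw [← det_transpose, gen_transpose, det_neg, Fintype.card_fin, hN.neg_one_pow]
    rw [neg_one_mul]
  have h2 : (2 : MvPolynomial (Fin N × Fin N) ℤ) * (gen N).det = 0 := by linear_combination h
  rcases mul_eq_zero.1 h2 with h3 | h3
  · exfalso
    exact two_ne_zero h3
  · exact h3

/-- An alternating matrix of odd size has determinant zero (over any commutative ring). -/
lemma det_alt {R : Type u} [CommRing R] {N : ℕ} (hN : Odd N) (M : Matrix (Fin N) (Fin N) R)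
    (h0 : ∀ i, M i i = 0) (h1 : ∀ i j, M j i = - M i j) : M.det = 0 := by
  let φ : MvPolynomial (Fin N × Fin N) ℤ →+* R :=
    (MvPolynomial.eval₂Hom (Int.castRingHom R) fun p => M p.1 p.2)
  have h : M = (gen N).map φ := by
    ext i j
    simp only [map_apply, gen]
    rcases lt_trichotomy i j with h | h | h
    · simp [h, φ]
    · subst h; simp [h0]
    · simp [h, not_lt.2 h.le, φ, h1 j i]
  rw [h, ← RingHom.mapMatrix_apply, ← RingHom.map_det, det_gen hN, map_zero]

end Alt

section CharTwo

variable {R : Type u} [CommRing R] {N : ℕ}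

lemma det_polar_char_two (h2 : (2 : R) = 0) (hN : Odd N) (a : Fin N → Fin N → R) :
    (polarMatrix a).det = 0 := by
  apply det_alt hN
  · intro i
    simp [polarMatrix, h2]
  · intro i j
    have h : ∀ x : R, -x = x := fun x => by linear_combination (-x) * h2
    rw [h, polarMatrix_symm]

/-- In characteristic two and an odd number of variables no table is non-degenerate. -/
lemma not_quadNondeg [Nontrivial R] (h2 : (2 : R) = 0) (hN : Odd N) (a : Fin N → Fin N → R) :
    ¬ QuadNondeg a := by
  intro h
  unfold QuadNondeg at h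
  rw [det_polar_char_two h2 hN] at h
  exact not_isUnit_zero h

end CharTwo

section Field

variable {k : Type u} [Field k] {N : ℕ}

lemma quadNondeg_of_two_ne_zero (h2 : (2 : k) ≠ 0) {a : Fin N → Fin N → k} (ha : QuadOrd a) :
    QuadNondeg a := by
  unfold QuadNondeg
  rw [isUnit_iff_ne_zero]
  intro h
  obtain ⟨v, hv, hv'⟩ := exists_mulVec_eq_zero_iff.2 h
  refine hv (ha v ?_ hv')
  have h3 := two_mul_quadEval a v
  rw [hv', dotProduct_zero] at h3
  exact (mul_eq_zero.1 h3).resolve_left h2

lemma quadNondeg_of_char_two [IsAlgClosed k] (h2 : (2 : k) = 0) (hN : Even N)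
    {a : Fin N → Fin N → k} (ha : QuadOrd a) : QuadNondeg a := by
  unfold QuadNondeg
  rw [isUnit_iff_ne_zero]
  intro h
  obtain ⟨v, hv, hv'⟩ := exists_mulVec_eq_zero_iff.2 h
  obtain ⟨i₀, hi₀⟩ := Function.ne_iff.1 hv
  obtain ⟨M, rfl⟩ : ∃ M, N = M + 1 := Nat.exists_eq_succ_of_ne_zero (by
    rintro rfl
    exact i₀.elim0)
  have hM : Odd M := by
    rcases Nat.even_or_odd M with h | h
    · exact absurd hN (Nat.not_even_iff_odd.2 h.add_one)
    · exact h
  have hneg : ∀ x : k, -x = x := fun x => by linear_combination (-x) * h2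
  -- the submatrix
  obtain ⟨w', hw', hw''⟩ := exists_mulVec_eq_zero_iff.2
    (det_alt hM ((polarMatrix a).submatrix i₀.succAbove i₀.succAbove) (fun i => by
      simp [polarMatrix, h2]) (fun i j => by
      rw [hneg, submatrix_apply, submatrix_apply, polarMatrix_symm]))
  obtain ⟨w, hw0, hws⟩ : ∃ w : Fin (M + 1) → k, w i₀ = 0 ∧ ∀ j, w (i₀.succAbove j) = w' j :=
    ⟨i₀.insertNth (α := fun _ => k) 0 w', by simp, by simp⟩
  have h1 : ∀ j, (polarMatrix a).mulVec w (i₀.succAbove j) = 0 := by
    intro j
    have h3 := congrFun hw'' j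
    simp only [mulVec, dotProduct] at h3 ⊢
    rw [Fin.sum_univ_succAbove _ i₀, hw0, mul_zero, zero_add]
    simpa [hws] using h3
  have h4 : v ⬝ᵥ (polarMatrix a).mulVec w = 0 := by
    rw [dotProduct_mulVec]
    have : v ᵥ* polarMatrix a = 0 := by
      rw [← mulVec_transpose]
      have : (polarMatrix a)ᵀ = polarMatrix a := by
        ext i j
        rw [transpose_apply, polarMatrix_symm]
      rw [this, hv']
    rw [this, zero_dotProduct]
  have h5 : (polarMatrix a).mulVec w = 0 := by
    have h6 : (polarMatrix a).mulVec w i₀ = 0 := by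
      rw [dotProduct, Fin.sum_univ_succAbove _ i₀] at h4
      simp only [h1, mul_zero, Finset.sum_const_zero, add_zero] at h4
      exact (mul_eq_zero.1 h4).resolve_left hi₀
    ext j
    rcases Fin.eq_self_or_eq_succAbove i₀ j with rfl | ⟨j', rfl⟩
    · exact h6
    · exact h1 j'
  have hQv : quadEval a v ≠ 0 := fun h => hv (ha v h hv')
  obtain ⟨s, hs⟩ := IsAlgClosed.exists_pow_nat_eq (- quadEval a w / quadEval a v) two_pos
  have h7 : quadEval a (s • v + w) = 0 := by
    rw [quadEval_add, quadEval_smul, smul_dotProduct, h4, smul_zero, add_zero, hs]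
    field_simp
    ring
  have h8 : (polarMatrix a).mulVec (s • v + w) = 0 := by
    rw [mulVec_add, mulVec_smul, hv', h5, smul_zero, add_zero]
  have h9 := ha _ h7 h8
  have h10 : s = 0 := by
    have := congrFun h9 i₀
    simp only [Pi.add_apply, Pi.smul_apply, smul_eq_mul, hw0, add_zero, Pi.zero_apply] at this
    exact (mul_eq_zero.1 this).resolve_right hi₀
  rw [h10, zero_smul, zero_add] at h9
  apply hw'
  ext j
  rw [← hws j, h9]
  rfl

lemma quadNondeg_of_quadOrd [IsAlgClosed k] (h : (2 : k) ≠ 0 ∨ Even N)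
    {a : Fin N → Fin N → k} (ha : QuadOrd a) : QuadNondeg a := by
  by_cases h2 : (2 : k) = 0
  · exact quadNondeg_of_char_two h2 (h.resolve_left (not_not.2 h2)) ha
  · exact quadNondeg_of_two_ne_zero h2 ha

end Field

section Sing

variable {k : Type u} [Field k] {O : Type u} [CommRing O]

lemma isNondegQuadSing_of_isOrdQuadSing [IsAlgClosed k] [IsLocalRing O] [Algebra k O] {n : ℕ}
    (h : (2 : k) ≠ 0 ∨ Odd n) (hO : IsOrdQuadSing k O n) : IsNondegQuadSing k O n := by
  obtain ⟨f, ⟨hf1, hf2⟩, e⟩ := hO
  exact ⟨f, ⟨hf1, quadNondeg_of_quadOrd (h.imp id fun h => h.add_one) hf2⟩, e⟩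

lemma isNondegQuadPt_of_isOrdQuadPt (φ : k →+* O) {n : ℕ} (h : (2 : k) ≠ 0 ∨ Odd n)
    (hO : IsOrdQuadPt φ n) : IsNondegQuadPt φ n := by
  intro M hM
  refine isNondegQuadSing_of_isOrdQuadSing (h.imp (fun h2 h3 => h2 ?_) id) (hO M)
  have : algebraMap k (AlgebraicClosure k) 2 = algebraMap k (AlgebraicClosure k) 0 := by
    rw [map_ofNat, map_zero, h3]
  exact (algebraMap k (AlgebraicClosure k)).injective this

lemma not_isNondegQuadPt [Nontrivial O] (φ : k →+* O) {n : ℕ} (h2 : (2 : k) = 0) (hn : Even n) :
    ¬ IsNondegQuadPt φ n := by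
  intro h
  let _ := φ.toAlgebra
  have : Nontrivial (TensorProduct k (AlgebraicClosure k) O) :=
    (Algebra.TensorProduct.includeLeft_injective (R := k) (S := k) (A := AlgebraicClosure k) (B := O)
      (RingHom.injective _)).nontrivial
  obtain ⟨M, hM⟩ := Ideal.exists_maximal (TensorProduct k (AlgebraicClosure k) O)
  obtain ⟨f, ⟨-, hf⟩, -⟩ := h M
  refine not_quadNondeg ?_ hn.add_one _ hf
  have : algebraMap k (AlgebraicClosure k) 2 = algebraMap k (AlgebraicClosure k) 0 := by
    rw [h2]
  rwa [map_ofNat, map_zero] at this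

end Sing

end Groth.Agent.Vancyc.H694.OrdNondeg
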