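import Groth.Agent.Vancyc.H694.StdT
import Groth.Agent.Vancyc.H686.NormalFormOdd

/-!
# The origin of the closed fibre in the standard models, and the split forms

* `originIdeal_eq`, `isMaximal_originIdeal`, `isMaximal_originQuot`, `comap_originQuot`;
* `exists_splitEquiv` : `R[x]/(Q - b) ≃ₐ[R] R[x]/(∑ x_i x_{m+i} - b)` carrying the origin to the
  origin (`2m` variables, `R` strictly henselian);
* `exists_splitEquiv_odd` : the same for `2m + 1` variables, `2` invertible, with target
  `degQuadRing R (stdT R m) 0 (-b)`.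
-/

set_option autoImplicit false
universe u

open VanCyc IsLocalRing MvPolynomial

namespace Groth.Agent.Vancyc.H694.Origin

open Groth.Agent.Vancyc.H694.StdT

section Gen

variable {R : Type u} [CommRing R]

lemma sub_C_mem {σ : Type} (p : MvPolynomial σ R) :
    p - C (constantCoeff p) ∈ Ideal.span (Set.range (X : σ → MvPolynomial σ R)) := by
  induction p using MvPolynomial.induction_on with
  | C a => simp
  | add p q hp hq =>
    have : p + q - C (constantCoeff (p + q)) =
        (p - C (constantCoeff p)) + (q - C (constantCoeff q)) := by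
      rw [map_add, map_add]; ring
    rw [this]
    exact Ideal.add_mem _ hp hq
  | mul_X p i hp =>
    rw [map_mul, constantCoeff_X, mul_zero, map_zero, sub_zero]
    exact Ideal.mul_mem_left _ _ (Ideal.subset_span ⟨i, rfl⟩)

variable [IsLocalRing R]

/-- The origin ideal `(𝔪, x)` of `R[x]`, any index type. -/
noncomputable def orig (R : Type u) [CommRing R] [IsLocalRing R] (σ : Type) : Ideal (MvPolynomial σ R) :=
  (maximalIdeal R).map C ⊔ Ideal.span (Set.range X)

lemma orig_eq (σ : Type) : orig R σ = (maximalIdeal R).comap (constantCoeff (R := R) (σ := σ)) := by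
  apply le_antisymm
  · refine sup_le ?_ ?_
    · rw [Ideal.map_le_iff_le_comap]
      intro r hr
      rw [Ideal.mem_comap, Ideal.mem_comap, constantCoeff_C]
      exact hr
    · rw [Ideal.span_le]
      rintro _ ⟨i, rfl⟩
      rw [SetLike.mem_coe, Ideal.mem_comap, constantCoeff_X]
      exact Ideal.zero_mem _
  · intro p hp
    have h1 : p = C (constantCoeff p) + (p - C (constantCoeff p)) := by ring
    rw [h1]
    refine Ideal.add_mem _ (Ideal.mem_sup_left ?_) (Ideal.mem_sup_right (sub_C_mem p))
    exact Ideal.mem_map_of_mem _ hp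

lemma mem_orig_iff {σ : Type} (p : MvPolynomial σ R) :
    p ∈ orig R σ ↔ constantCoeff p ∈ maximalIdeal R := by
  rw [orig_eq, Ideal.mem_comap]

omit [IsLocalRing R] in
lemma constantCoeff_surjective (σ : Type) :
    Function.Surjective (constantCoeff (R := R) (σ := σ)) := fun r => ⟨C r, constantCoeff_C _ r⟩

instance isMaximal_orig (σ : Type) : (orig R σ).IsMaximal := by
  rw [orig_eq]
  exact Ideal.comap_isMaximal_of_surjective _ (constantCoeff_surjective σ)

/-- The image of the origin ideal in a quotient. -/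
noncomputable def origQ {σ : Type} (F : MvPolynomial σ R) :
    Ideal (MvPolynomial σ R ⧸ Ideal.span {F}) :=
  (orig R σ).map (Ideal.Quotient.mk _)

lemma comap_origQ {σ : Type} {F : MvPolynomial σ R} (hF : constantCoeff F ∈ maximalIdeal R) :
    (origQ F).comap (Ideal.Quotient.mk _) = orig R σ := by
  rw [origQ, Ideal.comap_map_of_surjective _ Ideal.Quotient.mk_surjective, ← RingHom.ker_eq_comap_bot,
    Ideal.mk_ker, sup_eq_left, Ideal.span_le, Set.singleton_subset_iff, SetLike.mem_coe, mem_orig_iff]
  exact hF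

lemma isMaximal_origQ {σ : Type} {F : MvPolynomial σ R} (hF : constantCoeff F ∈ maximalIdeal R) :
    (origQ F).IsMaximal := by
  have h1 : (orig R σ).IsMaximal := inferInstance
  refine (Ideal.map_eq_top_or_isMaximal_of_surjective (Ideal.Quotient.mk (Ideal.span {F}))
    Ideal.Quotient.mk_surjective h1).resolve_left fun h => ?_
  apply h1.ne_top
  rw [← comap_origQ hF]
  exact Ideal.comap_eq_top_iff.2 h

/-- Isomorphisms of polynomial rings preserving constant coefficients modulo the maximal ideal
preserve the origin. -/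
lemma comap_origQ_equiv {σ τ : Type} {F : MvPolynomial σ R} {G : MvPolynomial τ R}
    (hF : constantCoeff F ∈ maximalIdeal R) (hG : constantCoeff G ∈ maximalIdeal R)
    (e : (MvPolynomial σ R ⧸ Ideal.span {F}) ≃ₐ[R] (MvPolynomial τ R ⧸ Ideal.span {G}))
    (he : ∀ i, ∃ p : MvPolynomial τ R, constantCoeff p ∈ maximalIdeal R ∧
      e (Ideal.Quotient.mk _ (X i)) = Ideal.Quotient.mk _ p) :
    (origQ G).comap (e : _ →+* _) = origQ F := by
  have h1 := isMaximal_origQ hF
  have h2 := isMaximal_origQ hG
  symm
  refine h1.eq_of_le (Ideal.comap_ne_top _ h2.ne_top) ?_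
  rw [origQ, Ideal.map_le_iff_le_comap]
  refine sup_le ?_ ?_
  · rw [Ideal.map_le_iff_le_comap]
    intro r hr
    rw [Ideal.mem_comap, Ideal.mem_comap, Ideal.mem_comap]
    have h3 : (e : _ →+* _) (Ideal.Quotient.mk (Ideal.span {F}) (C r)) =
        Ideal.Quotient.mk (Ideal.span {G}) (C r) := e.commutes r
    rw [h3]
    refine Ideal.mem_map_of_mem _ ?_
    rw [mem_orig_iff, constantCoeff_C]
    exact hr
  · rw [Ideal.span_le]
    rintro _ ⟨i, rfl⟩
    obtain ⟨p, hp, hp'⟩ := he i
    rw [SetLike.mem_coe, Ideal.mem_comap, Ideal.mem_comap]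
    have h3 : (e : _ →+* _) (Ideal.Quotient.mk (Ideal.span {F}) (X i)) =
        Ideal.Quotient.mk (Ideal.span {G}) p := hp'
    rw [h3]
    exact Ideal.mem_map_of_mem _ ((mem_orig_iff p).2 hp)

end Gen

section Quad

variable {R : Type u} [CommRing R]

lemma constantCoeff_quadPoly {N : ℕ} (a : Fin N → Fin N → R) : constantCoeff (quadPoly a) = 0 := by
  unfold quadPoly
  rw [map_sum]
  refine Finset.sum_eq_zero fun i _ => ?_
  rw [map_sum]
  refine Finset.sum_eq_zero fun j _ => ?_
  split_ifs
  · simp
  · simp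

variable [IsLocalRing R]

lemma originIdeal_eq {N : ℕ} : (originIdeal R : Ideal (MvPolynomial (Fin N) R)) = orig R (Fin N) := rfl

lemma constantCoeff_mem {N : ℕ} (a : Fin N → Fin N → R) {b : R} (hb : b ∈ maximalIdeal R) :
    constantCoeff (quadPoly a - C b) ∈ maximalIdeal R := by
  rw [map_sub, constantCoeff_quadPoly, constantCoeff_C, zero_sub]
  exact (maximalIdeal R).neg_mem hb

lemma originQuot_eq {N : ℕ} (a : Fin N → Fin N → R) (b : R) :
    originQuot R a b = origQ (quadPoly a - C b) := rfl

lemma isMaximal_originQuot {N : ℕ} (a : Fin N → Fin N → R) {b : R} (hb : b ∈ maximalIdeal R) :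
    (originQuot R a b).IsMaximal := isMaximal_origQ (constantCoeff_mem a hb)

end Quad

section Split

variable {R : Type u} [CommRing R]

/-- `Fin m ⊕ Fin m ≃ Fin (2 * m)`, `inl i ↦ i`, `inr i ↦ m + i`. -/
noncomputable def idx (m : ℕ) : Fin m ⊕ Fin m ≃ Fin (2 * m) :=
  Equiv.ofBijective (Sum.elim (lo m) (hi m)) (by
    constructor
    · rintro (i | i) (j | j) h
      · exact congrArg Sum.inl (lo_injective h)
      · exfalso
        have := congrArg Fin.val h
        simp only [Sum.elim_inl, Sum.elim_inr, lo, hi] at this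
        omega
      · exfalso
        have := congrArg Fin.val h
        simp only [Sum.elim_inl, Sum.elim_inr, lo, hi] at this
        omega
      · exact congrArg Sum.inr (hi_injective h)
    · intro j
      rcases eq_lo_or_hi j with ⟨i, rfl⟩ | ⟨i, rfl⟩
      · exact ⟨Sum.inl i, rfl⟩
      · exact ⟨Sum.inr i, rfl⟩)

@[simp] lemma idx_inl (m : ℕ) (i : Fin m) : idx m (Sum.inl i) = lo m i := rfl
@[simp] lemma idx_inr (m : ℕ) (i : Fin m) : idx m (Sum.inr i) = hi m i := rfl

open Groth.Agent.Vancyc.H686.NormalForm Groth.Agent.Vancyc.H686.NormalFormOdd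

/-- Linear substitutions have no constant coefficient. -/
lemma constantCoeff_linHom {n n' : Type} [Fintype n] [Fintype n'] [DecidableEq n] [DecidableEq n'] (g : Matrix n n' R) (i : n) :
    constantCoeff (linHom g (X i)) = 0 := by
  rw [linHom_X, map_sum]
  refine Finset.sum_eq_zero fun j _ => ?_
  simp

variable [HenselianLocalRing R] [IsSepClosed (ResidueField R)]

/-- The split form, even number of variables, with the origin. -/
theorem exists_splitEquiv (m : ℕ) {N : ℕ} (hN : N = 2 * m) (a : Fin N → Fin N → R)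
    (ha : QuadNondeg a) {b : R} (hb : b ∈ maximalIdeal R) :
    ∃ e : quadRing R a b ≃ₐ[R] quadRing R (stdT R m) b,
      (originQuot R (stdT R m) b).comap (e : _ →+* _) = originQuot R a b := by
  obtain ⟨g, g', h1, h2, h3⟩ := split_upper m hN a ha
  have h4 := formPoly_isAlt _ h3
  rw [formPoly_sub, sub_eq_zero, formPoly_hyp] at h4
  let E : MvPolynomial (Fin N) R ≃ₐ[R] MvPolynomial (Fin (2 * m)) R :=
    (linEquiv g g' h1 h2).trans (renameEquiv R (idx m))
  have hEX : ∀ i, E (X i) = rename (idx m) (linHom g (X i)) := fun i => rfl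
  have hE : E (quadPoly a - C b) = quadPoly (stdT R m) - C b := by
    have h5 : E (quadPoly a) = quadPoly (stdT R m) := by
      change rename (idx m) (linHom g (quadPoly a)) = _
      rw [← formPoly_upper, linHom_formPoly, h4, quadPoly_stdT, map_sum]
      refine Finset.sum_congr rfl fun i _ => ?_
      rw [map_mul, rename_X, rename_X, idx_inl, idx_inr]
    rw [map_sub, h5]
    congr 1
    exact E.commutes b
  refine ⟨quotEquiv E _ _ hE, ?_⟩
  refine comap_origQ_equiv (constantCoeff_mem a hb) (constantCoeff_mem _ hb) _ fun i => ?_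
  refine ⟨E (X i), ?_, rfl⟩
  rw [hEX, constantCoeff_rename, constantCoeff_linHom]
  exact Ideal.zero_mem _

/-- `Unit ⊕ (Fin m ⊕ Fin m) ≃ Fin (2 * m + 1)`. -/
noncomputable def idxOdd (m : ℕ) : Unit ⊕ (Fin m ⊕ Fin m) ≃ Fin (2 * m + 1) :=
  Equiv.ofBijective (Sum.elim (fun _ => 0) (fun s => Fin.succ (idx m s))) (by
    constructor
    · rintro (i | i) (j | j) h
      · rfl
      · exact absurd h.symm (Fin.succ_ne_zero _)
      · exact absurd h (Fin.succ_ne_zero _)
      · exact congrArg Sum.inr ((idx m).injective (Fin.succ_injective _ h))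
    · intro j
      refine Fin.cases ⟨Sum.inl (), rfl⟩ (fun j => ?_) j
      exact ⟨Sum.inr ((idx m).symm j), congrArg Fin.succ ((idx m).apply_symm_apply j)⟩)

omit [HenselianLocalRing R] [IsSepClosed (ResidueField R)] in
lemma constantCoeff_degQuadPoly [IsLocalRing R] {m : ℕ} (a : Fin (2 * m) → Fin (2 * m) → R) (b c : R) :
    constantCoeff (degQuadPoly R a b c) = c := by
  unfold degQuadPoly
  simp [constantCoeff_rename, constantCoeff_quadPoly]

/-- The split form, odd number of variables, `2` invertible, with the origin. -/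
theorem exists_splitEquiv_odd (h2 : IsUnit (2 : R)) (m : ℕ) {N : ℕ} (hN : N = 2 * m + 1)
    (a : Fin N → Fin N → R) (ha : QuadNondeg a) {b : R} (hb : b ∈ maximalIdeal R) :
    ∃ e : quadRing R a b ≃ₐ[R] degQuadRing R (stdT R m) 0 (-b),
      (origQ (degQuadPoly R (stdT R m) 0 (-b))).comap (e : _ →+* _) = originQuot R a b := by
  obtain ⟨g, g', h1, h2', h3⟩ := splitOdd_of_isUnit_det h2 m (Fin N)
    (by rw [Fintype.card_fin, hN]) _ (by
      rw [upper_add_transpose]
      exact ha)
  have h4 := formPoly_isAlt _ h3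
  rw [formPoly_sub, sub_eq_zero, formPoly_odd] at h4
  let E : MvPolynomial (Fin N) R ≃ₐ[R] MvPolynomial (Fin (2 * m + 1)) R :=
    (linEquiv g g' h1 h2').trans (renameEquiv R (idxOdd m))
  have hEX : ∀ i, E (X i) = rename (idxOdd m) (linHom g (X i)) := fun i => rfl
  have hE : E (quadPoly a - C b) = degQuadPoly R (stdT R m) 0 (-b) := by
    have h5 : E (quadPoly a) = X 0 ^ 2 + rename Fin.succ (quadPoly (stdT R m)) := by
      change rename (idxOdd m) (linHom g (quadPoly a)) = _
      rw [← formPoly_upper, linHom_formPoly, h4, quadPoly_stdT, map_add, map_pow, rename_X, map_sum,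
        map_sum]
      congr 1
      refine Finset.sum_congr rfl fun i _ => ?_
      rw [map_mul, rename_X, rename_X, map_mul, rename_X, rename_X]
      rfl
    have h6 : E (C b) = C b := E.commutes b
    rw [map_sub, h5, h6]
    unfold degQuadPoly
    rw [map_zero, map_neg]
    ring
  refine ⟨quotEquiv E _ _ hE, ?_⟩
  refine comap_origQ_equiv (constantCoeff_mem a hb) ?_ _ fun i => ?_
  · rw [constantCoeff_degQuadPoly]
    exact (maximalIdeal R).neg_mem hb
  · refine ⟨E (X i), ?_, rfl⟩
    rw [hEX, constantCoeff_rename, constantCoeff_linHom]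
    exact Ideal.zero_mem _

omit [HenselianLocalRing R] [IsSepClosed (ResidueField R)] in
lemma sideIdeal_le_origQ [IsLocalRing R] {m : ℕ} (a : Fin (2 * m) → Fin (2 * m) → R) (b c : R) :
    sideIdeal R a b c ≤ origQ (degQuadPoly R a b c) := by
  refine Ideal.map_mono ?_
  refine sup_le_sup_left (Ideal.span_mono ?_) _
  rintro _ ⟨i, rfl⟩
  exact ⟨_, rfl⟩

end Split

end Groth.Agent.Vancyc.H694.Origin
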