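import Groth.Prelude.Def_VanCyc
import Groth.Prelude.Def_QuadSing
import Mathlib.AlgebraicGeometry.Morphisms.Etale
import Mathlib.LinearAlgebra.Matrix.Permutation

/-!
# The split models of ordinary quadratic singularities

* `stdT A m` : the coefficient table of `∑_{i < m} x_i x_{m+i}`;
* `modelOdd R m b` : `Spec R[x]/(∑ x_i x_{m+i} - b) ⟶ Spec R`;
* `modelEven R m b c` : `Spec R[x_0, x]/(x_0² + b x_0 + c + ∑ x_i x_{m+i}) ⟶ Spec R`;
* `HasCommonEt f g x y` : `(X, x)` and `(Y, y)` have a common étale neighbourhood over `S`.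
-/

set_option autoImplicit false
universe u
open CategoryTheory CategoryTheory.Limits AlgebraicGeometry

namespace Groth.Agent.Vancyc.H694.StdT

/-- The coefficient table of `∑_{i < m} x_i x_{m+i}`. -/
def stdT (A : Type u) [CommRing A] (m : ℕ) : Fin (2 * m) → Fin (2 * m) → A :=
  fun i j => if (i : ℕ) + m = j then 1 else 0

/-- `(X, x)` and `(Y, y)` have a common étale neighbourhood over `S`. -/
def HasCommonEt {S X Y : Scheme.{u}} (f : X ⟶ S) (g : Y ⟶ S) (x : X) (y : Y) : Prop :=
  ∃ (U : Scheme.{u}) (p : U ⟶ X) (q : U ⟶ Y) (z : U), Etale p ∧ Etale q ∧ p ≫ f = q ≫ g ∧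
    p z = x ∧ q z = y

/-- `Spec R[x_0, …, x_{2m-1}]/(∑ x_i x_{m+i} - b) ⟶ Spec R`. -/
noncomputable abbrev modelOdd (R : Type u) [CommRing R] (m : ℕ) (b : R) :
    Spec (CommRingCat.of (VanCyc.quadRing R (stdT R m) b)) ⟶ Spec (CommRingCat.of R) :=
  Spec.map (CommRingCat.ofHom (algebraMap R _))

/-- `Spec R[x_0, …, x_{2m}]/(x_0² + b x_0 + c + ∑ x_i x_{m+i}) ⟶ Spec R`. -/
noncomputable abbrev modelEven (R : Type u) [CommRing R] [IsLocalRing R] (m : ℕ) (b c : R) :
    Spec (CommRingCat.of (VanCyc.degQuadRing R (stdT R m) b c)) ⟶ Spec (CommRingCat.of R) :=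
  Spec.map (CommRingCat.ofHom (algebraMap R _))

section Std

variable (A : Type u) [CommRing A] (m : ℕ)

/-- the index `i < m` -/
def lo (i : Fin m) : Fin (2 * m) := ⟨i, by omega⟩

/-- the index `m + i` -/
def hi (i : Fin m) : Fin (2 * m) := ⟨m + i, by omega⟩

variable {m}

lemma lo_lt_hi (i : Fin m) : lo m i < hi m i := by
  simp only [lo, hi, Fin.lt_def]; omega

lemma lo_injective : Function.Injective (lo m) := fun i j h => by
  simpa [lo, Fin.ext_iff] using h

lemma hi_injective : Function.Injective (hi m) := fun i j h => by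
  simpa [hi, Fin.ext_iff] using h

/-- Every index is `lo i` or `hi i`. -/
lemma eq_lo_or_hi (j : Fin (2 * m)) : (∃ i, j = lo m i) ∨ ∃ i, j = hi m i := by
  rcases lt_or_ge (j : ℕ) m with h | h
  · exact Or.inl ⟨⟨j, h⟩, rfl⟩
  · exact Or.inr ⟨⟨j - m, by omega⟩, Fin.ext (by simp only [hi]; omega)⟩

lemma sum_lo_hi {M : Type*} [AddCommMonoid M] (φ : Fin (2 * m) → M) :
    ∑ j, φ j = ∑ i, φ (lo m i) + ∑ i, φ (hi m i) := by
  have e : 2 * m = m + m := two_mul m
  rw [← Equiv.sum_comp (finCongr e).symm φ, Fin.sum_univ_add]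
  congr 1

variable (m)

lemma quadPoly_stdT : VanCyc.quadPoly (stdT A m) =
    ∑ i : Fin m, MvPolynomial.X (lo m i) * MvPolynomial.X (hi m i) := by
  unfold VanCyc.quadPoly
  rw [sum_lo_hi]
  have h2 : ∑ i : Fin m, ∑ j : Fin (2 * m), (if hi m i ≤ j then
      MvPolynomial.C (stdT A m (hi m i) j) * MvPolynomial.X (hi m i) * MvPolynomial.X j else 0) =
      (0 : MvPolynomial (Fin (2 * m)) A) := by
    refine Finset.sum_eq_zero fun i _ => Finset.sum_eq_zero fun j _ => ?_
    have : stdT A m (hi m i) j = 0 := by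
      unfold stdT hi
      rw [if_neg]
      simp only
      omega
    rw [this, map_zero, zero_mul, zero_mul, ite_self]
  rw [h2, add_zero]
  refine Finset.sum_congr rfl fun i _ => ?_
  rw [Finset.sum_eq_single (hi m i)]
  · have : stdT A m (lo m i) (hi m i) = 1 := by
      unfold stdT hi lo
      rw [if_pos]
      simp only
      omega
    rw [if_pos (lo_lt_hi i).le, this, map_one, one_mul]
  · intro j _ hj
    have : stdT A m (lo m i) j = 0 := by
      unfold stdT lo
      rw [if_neg]
      intro h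
      apply hj
      ext
      simp only [hi] at h ⊢
      omega
    rw [this, map_zero, zero_mul, zero_mul, ite_self]
  · intro h
    exact absurd (Finset.mem_univ _) h

/-- The involution exchanging `i` and `m + i`. -/
def swp : Equiv.Perm (Fin (2 * m)) where
  toFun j := if h : (j : ℕ) < m then ⟨m + j, by omega⟩ else ⟨j - m, by omega⟩
  invFun j := if h : (j : ℕ) < m then ⟨m + j, by omega⟩ else ⟨j - m, by omega⟩
  left_inv j := by
    by_cases h : (j : ℕ) < m
    · simp [h]
    · have : (j : ℕ) - m < m := by omega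
      simp only [h, dif_neg, not_false_eq_true, this, dif_pos]
      ext; simp only; omega
  right_inv j := by
    by_cases h : (j : ℕ) < m
    · simp [h]
    · have : (j : ℕ) - m < m := by omega
      simp only [h, dif_neg, not_false_eq_true, this, dif_pos]
      ext; simp only; omega

lemma polarMatrix_stdT : VanCyc.polarMatrix (stdT A m) = (swp m).permMatrix A := by
  ext i j
  rw [Equiv.Perm.permMatrix, PEquiv.toMatrix_apply]
  simp only [VanCyc.polarMatrix, stdT, Equiv.toPEquiv_apply, Option.mem_some_iff, swp,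
    Equiv.coe_fn_mk]
  have hi' := i.2
  have hj' := j.2
  rcases lt_trichotomy i j with h | h | h
  · rw [if_neg h.ne, if_pos h]
    rw [Fin.lt_def] at h
    congr 1
    rw [eq_iff_iff]
    split_ifs with h1
    · simp only [Fin.ext_iff]; omega
    · simp only [Fin.ext_iff]; omega
  · subst h
    rw [if_pos rfl, if_neg (by omega), mul_zero, if_neg]
    split_ifs with h1
    · simp only [Fin.ext_iff]; omega
    · simp only [Fin.ext_iff]; omega
  · rw [if_neg h.ne', if_neg (not_lt.2 h.le)]
    rw [Fin.lt_def] at h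
    congr 1
    rw [eq_iff_iff]
    split_ifs with h1
    · simp only [Fin.ext_iff]; omega
    · simp only [Fin.ext_iff]; omega

/-- The split table is non-degenerate. -/
lemma quadNondeg_stdT : VanCyc.QuadNondeg (stdT A m) := by
  unfold VanCyc.QuadNondeg
  rw [polarMatrix_stdT, Matrix.det_permutation]
  rcases Int.units_eq_one_or (Equiv.Perm.sign (swp m)) with h | h <;> rw [h] <;> simp

end Std

end Groth.Agent.Vancyc.H694.StdT
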