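import Groth.Agent.Vancyc.H694.StdT
import Groth.Agent.Vancyc.H543.SmLoc
import Mathlib.RingTheory.DiscreteValuationRing.Basic
import Mathlib.RingTheory.DedekindDomain.Basic
import Mathlib.AlgebraicGeometry.Noetherian

/-!
# The even split model

`x_0² + b x_0 + c + ∑ x_i x_{m+i} = 0` over a discrete valuation ring, `b` in the maximal ideal and `2` in the
maximal ideal (or `b = 0`, `c` in the maximal ideal, `2` a unit).

* `eq_of_sideIdeal_le`: uniqueness of the prime ideal above the side ideal;
* `mem_smoothLocus_of_ne`, `smooth_smoothLocus`: smoothness outside of this point.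
-/

set_option autoImplicit false
universe u
open CategoryTheory CategoryTheory.Limits AlgebraicGeometry IsLocalRing VanCyc

namespace Groth.Agent.Vancyc.H694.ModelEven

open Groth.Agent.Vancyc.H694.StdT

section Alg

variable (R : Type u) [CommRing R] [IsLocalRing R] (m : ℕ) (b c : R)

/-- The coordinate ring. -/
abbrev Bm : Type u := degQuadRing R (stdT R m) b c

/-- the coordinates of the even model -/
noncomputable def dx (j : Fin (2 * m + 1)) : Bm R m b c := Ideal.Quotient.mk _ (MvPolynomial.X j)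

theorem aeval_degQuadPoly {D : Type u} [CommRing D] [Algebra R D] (z : Fin (2 * m + 1) → D) :
    MvPolynomial.aeval z (degQuadPoly R (stdT R m) b c) =
      z 0 ^ 2 + algebraMap R D b * z 0 + algebraMap R D c +
        ∑ i, z (Fin.succ (lo m i)) * z (Fin.succ (hi m i)) := by
  unfold degQuadPoly
  rw [quadPoly_stdT]
  simp only [map_add, map_mul, map_pow, map_sum, MvPolynomial.aeval_X, MvPolynomial.aeval_C,
    MvPolynomial.rename_X]

theorem rel : dx R m b c 0 ^ 2 + algebraMap R _ b * dx R m b c 0 + algebraMap R _ c +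
    ∑ i, dx R m b c (Fin.succ (lo m i)) * dx R m b c (Fin.succ (hi m i)) = 0 := by
  rw [← aeval_degQuadPoly]
  have h : (MvPolynomial.aeval (dx R m b c) : _ →ₐ[R] Bm R m b c) =
      Ideal.Quotient.mkₐ R (Ideal.span {degQuadPoly R (stdT R m) b c}) := by
    apply MvPolynomial.algHom_ext
    intro j
    rw [MvPolynomial.aeval_X]
    rfl
  rw [h]
  exact Ideal.Quotient.eq_zero_iff_mem.2 (Ideal.subset_span rfl)

variable {R m b c}

theorem dx_succ_mem (i : Fin (2 * m)) : dx R m b c (Fin.succ i) ∈ sideIdeal R (stdT R m) b c :=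
  Ideal.mem_map_of_mem _ (Ideal.mem_sup_right (Ideal.subset_span ⟨i, rfl⟩))

theorem algebraMap_mem {a : R} (ha : a ∈ maximalIdeal R) :
    algebraMap R (Bm R m b c) a ∈ sideIdeal R (stdT R m) b c :=
  Ideal.mem_map_of_mem _ (Ideal.mem_sup_left (Ideal.mem_map_of_mem _ ha))

theorem sideIdeal_le {Q : Ideal (Bm R m b c)}
    (h1 : ∀ a ∈ maximalIdeal R, algebraMap R (Bm R m b c) a ∈ Q)
    (h2 : ∀ i : Fin (2 * m), dx R m b c (Fin.succ i) ∈ Q) : sideIdeal R (stdT R m) b c ≤ Q := by
  refine Ideal.map_le_iff_le_comap.2 (sup_le (Ideal.map_le_iff_le_comap.2 fun a ha => h1 a ha) ?_)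
  rw [Ideal.span_le]
  rintro _ ⟨i, rfl⟩
  exact h2 i

/-- The relation modulo the side ideal. -/
theorem sq_add_mem (hb : b ∈ maximalIdeal R) :
    dx R m b c 0 ^ 2 + algebraMap R _ c ∈ sideIdeal R (stdT R m) b c := by
  have h1 : dx R m b c 0 ^ 2 + algebraMap R _ c = -(algebraMap R _ b * dx R m b c 0 +
      ∑ i, dx R m b c (Fin.succ (lo m i)) * dx R m b c (Fin.succ (hi m i))) := by
    linear_combination rel R m b c
  rw [h1]
  refine neg_mem (add_mem (Ideal.mul_mem_right _ _ (algebraMap_mem hb)) (Ideal.sum_mem _ fun i _ => ?_))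
  exact Ideal.mul_mem_right _ _ (dx_succ_mem _)

/-- In the two cases considered every element has a power congruent to a constant. -/
theorem exists_pow_sub_mem (hb : b ∈ maximalIdeal R)
    (h : (b = 0 ∧ c ∈ maximalIdeal R ∧ IsUnit (2 : R)) ∨ (2 : R) ∈ maximalIdeal R)
    {P : Ideal (Bm R m b c)} [P.IsPrime] (hP : sideIdeal R (stdT R m) b c ≤ P) (β : Bm R m b c) :
    ∃ (e : ℕ) (r : R) (J : Ideal (Bm R m b c)), 0 < e ∧ J ≤ P ∧ sideIdeal R (stdT R m) b c ≤ J ∧
      (∀ Q : Ideal (Bm R m b c), Q.IsPrime → sideIdeal R (stdT R m) b c ≤ Q → J ≤ Q) ∧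
      β ^ e - algebraMap R _ r ∈ J := by
  rcases h with ⟨-, hc, -⟩ | h2
  · -- first case
    have hz : ∀ Q : Ideal (Bm R m b c), Q.IsPrime → sideIdeal R (stdT R m) b c ≤ Q →
        dx R m b c 0 ∈ Q := by
      intro Q hQ hle
      have h1 : dx R m b c 0 ^ 2 ∈ Q := by
        have h2 : dx R m b c 0 ^ 2 = dx R m b c 0 ^ 2 + algebraMap R _ c - algebraMap R _ c := by ring
        rw [h2]
        exact sub_mem (hle (sq_add_mem hb)) (hle (algebraMap_mem hc))
      exact hQ.mem_of_pow_mem _ h1
    have hJ : ∀ Q : Ideal (Bm R m b c), Q.IsPrime → sideIdeal R (stdT R m) b c ≤ Q →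
        sideIdeal R (stdT R m) b c ⊔ Ideal.span {dx R m b c 0} ≤ Q := fun Q hQ hle =>
      sup_le hle (by rw [Ideal.span_singleton_le_iff_mem]; exact hz Q hQ hle)
    have key : ∃ r : R, β - algebraMap R _ r ∈
        sideIdeal R (stdT R m) b c ⊔ Ideal.span {dx R m b c 0} := by
      have hx : ∀ j, dx R m b c j ∈ sideIdeal R (stdT R m) b c ⊔ Ideal.span {dx R m b c 0} := by
        intro j
        refine Fin.cases ?_ (fun i => ?_) j
        · exact Ideal.mem_sup_right (Ideal.mem_span_singleton_self _)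
        · exact Ideal.mem_sup_left (dx_succ_mem i)
      obtain ⟨p, rfl⟩ := Ideal.Quotient.mk_surjective β
      induction p using MvPolynomial.induction_on with
      | C a => exact ⟨a, by
          have : Ideal.Quotient.mk (Ideal.span {degQuadPoly R (stdT R m) b c}) (MvPolynomial.C a) =
            algebraMap R _ a := rfl
          rw [this, sub_self]
          exact Ideal.zero_mem _⟩
      | add p q hp hq =>
        obtain ⟨r, hr⟩ := hp
        obtain ⟨s, hs⟩ := hq
        refine ⟨r + s, ?_⟩
        have : Ideal.Quotient.mk (Ideal.span {degQuadPoly R (stdT R m) b c}) (p + q) -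
            algebraMap R _ (r + s) = (Ideal.Quotient.mk _ p - algebraMap R _ r) +
              (Ideal.Quotient.mk _ q - algebraMap R _ s) := by
          rw [map_add, map_add]; ring
        rw [this]
        exact add_mem hr hs
      | mul_X p j hp =>
        refine ⟨0, ?_⟩
        rw [map_zero, sub_zero, map_mul]
        exact Ideal.mul_mem_left _ _ (hx j)
    obtain ⟨r, hr⟩ := key
    exact ⟨1, r, _, one_pos, hJ P inferInstance hP, le_sup_left, hJ, by rwa [pow_one]⟩
  · refine ⟨2, ?_⟩
    have key : ∃ r : R, β ^ 2 - algebraMap R _ r ∈ sideIdeal R (stdT R m) b c := by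
      obtain ⟨p, rfl⟩ := Ideal.Quotient.mk_surjective β
      induction p using MvPolynomial.induction_on with
      | C a => exact ⟨a ^ 2, by
          have : Ideal.Quotient.mk (Ideal.span {degQuadPoly R (stdT R m) b c}) (MvPolynomial.C a) =
            algebraMap R _ a := rfl
          rw [this, map_pow, sub_self]
          exact Ideal.zero_mem _⟩
      | add p q hp hq =>
        obtain ⟨r, hr⟩ := hp
        obtain ⟨s, hs⟩ := hq
        refine ⟨r + s, ?_⟩
        have : Ideal.Quotient.mk (Ideal.span {degQuadPoly R (stdT R m) b c}) (p + q) ^ 2 -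
            algebraMap R _ (r + s) = (Ideal.Quotient.mk _ p ^ 2 - algebraMap R _ r) +
              (Ideal.Quotient.mk _ q ^ 2 - algebraMap R _ s) +
              algebraMap R _ 2 * (Ideal.Quotient.mk _ p * Ideal.Quotient.mk _ q) := by
          rw [map_add, map_add, map_ofNat]; ring
        rw [this]
        exact add_mem (add_mem hr hs) (Ideal.mul_mem_right _ _ (algebraMap_mem h2))
      | mul_X p j hp =>
        obtain ⟨r, hr⟩ := hp
        refine Fin.cases ?_ (fun i => ?_) j
        · refine ⟨-(r * c), ?_⟩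
          have : Ideal.Quotient.mk (Ideal.span {degQuadPoly R (stdT R m) b c})
              (p * MvPolynomial.X 0) ^ 2 - algebraMap R _ (-(r * c)) =
                Ideal.Quotient.mk _ p ^ 2 * (dx R m b c 0 ^ 2 + algebraMap R _ c) -
                algebraMap R _ c * (Ideal.Quotient.mk _ p ^ 2 - algebraMap R _ r) := by
            rw [map_mul, map_neg, map_mul]
            change (_ * dx R m b c 0) ^ 2 - _ = _
            ring
          rw [this]
          exact sub_mem (Ideal.mul_mem_left _ _ (sq_add_mem hb)) (Ideal.mul_mem_left _ _ hr)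
        · refine ⟨0, ?_⟩
          rw [map_zero, sub_zero, map_mul, mul_pow]
          exact Ideal.mul_mem_left _ _ (Ideal.pow_mem_of_mem _ (dx_succ_mem i) 2 two_pos)
    obtain ⟨r, hr⟩ := key
    exact ⟨r, _, two_pos, hP, le_rfl, fun Q _ hQ => hQ, hr⟩

/-- Uniqueness of the prime ideal above the side ideal. -/
theorem le_of_sideIdeal_le (hb : b ∈ maximalIdeal R)
    (h : (b = 0 ∧ c ∈ maximalIdeal R ∧ IsUnit (2 : R)) ∨ (2 : R) ∈ maximalIdeal R)
    (P Q : Ideal (Bm R m b c)) [hP' : P.IsPrime] [Q.IsPrime] (hP : sideIdeal R (stdT R m) b c ≤ P)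
    (hQ : sideIdeal R (stdT R m) b c ≤ Q) : P ≤ Q := by
  intro β hβ
  obtain ⟨e, r, J, he, hJP, hJ, hJQ, h1⟩ := exists_pow_sub_mem hb h hP β
  have h2 : algebraMap R (Bm R m b c) r ∈ P := by
    have : algebraMap R (Bm R m b c) r = β ^ e - (β ^ e - algebraMap R _ r) := by ring
    rw [this]
    exact sub_mem (Ideal.pow_mem_of_mem _ hβ e he) (hJP h1)
  have h3 : r ∈ maximalIdeal R := by
    by_contra hr
    have hr' : IsUnit r := by
      by_contra h4
      exact hr ((mem_maximalIdeal r).2 h4)
    exact hP'.ne_top (Ideal.eq_top_of_isUnit_mem _ h2 (hr'.map _))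
  have h4 : β ^ e ∈ Q := by
    have : β ^ e = (β ^ e - algebraMap R _ r) + algebraMap R _ r := by ring
    rw [this]
    exact add_mem (hJQ Q inferInstance hQ h1) (hQ (algebraMap_mem h3))
  exact Ideal.IsPrime.mem_of_pow_mem inferInstance _ h4

theorem eq_of_sideIdeal_le (hb : b ∈ maximalIdeal R)
    (h : (b = 0 ∧ c ∈ maximalIdeal R ∧ IsUnit (2 : R)) ∨ (2 : R) ∈ maximalIdeal R)
    (x y : Spec (CommRingCat.of (Bm R m b c)))
    (hx : sideIdeal R (stdT R m) b c ≤ PrimeSpectrum.asIdeal x)
    (hy : sideIdeal R (stdT R m) b c ≤ PrimeSpectrum.asIdeal y) : x = y := by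
  have h1 : (PrimeSpectrum.asIdeal x).IsPrime := PrimeSpectrum.isPrime x
  have h2 : (PrimeSpectrum.asIdeal y).IsPrime := PrimeSpectrum.isPrime y
  exact PrimeSpectrum.ext (le_antisymm (le_of_sideIdeal_le hb h _ _ hx hy)
    (le_of_sideIdeal_le hb h _ _ hy hx))

instance finitePresentation : Algebra.FinitePresentation R (Bm R m b c) :=
  Algebra.FinitePresentation.quotient ⟨{degQuadPoly R (stdT R m) b c}, by simp⟩

instance locallyOfFinitePresentation : LocallyOfFinitePresentation (modelEven R m b c) := by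
  rw [HasRingHomProperty.Spec_iff (P := @LocallyOfFinitePresentation)]
  change (algebraMap R (Bm R m b c)).FinitePresentation
  rw [RingHom.finitePresentation_algebraMap]
  infer_instance

/-- The partial derivatives. -/
theorem pderiv_zero : MvPolynomial.pderiv 0 (degQuadPoly R (stdT R m) b c) =
    2 * MvPolynomial.X 0 + MvPolynomial.C b := by
  unfold degQuadPoly
  have h1 : ∀ p : MvPolynomial (Fin (2 * m)) R, MvPolynomial.pderiv 0
      (MvPolynomial.rename Fin.succ p : MvPolynomial (Fin (2 * m + 1)) R) = 0 := by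
    intro p
    refine MvPolynomial.pderiv_eq_zero_of_notMem_vars fun h => ?_
    have := MvPolynomial.vars_rename (Fin.succ) p h
    rw [Finset.mem_image] at this
    obtain ⟨i, -, hi⟩ := this
    exact Fin.succ_ne_zero i hi
  rw [map_add, map_add, map_add, h1, MvPolynomial.pderiv_C, Derivation.leibniz_pow, Derivation.leibniz,
    MvPolynomial.pderiv_C, MvPolynomial.pderiv_X_self]
  simp

theorem pderiv_succ (j : Fin (2 * m)) :
    MvPolynomial.pderiv (Fin.succ j) (degQuadPoly R (stdT R m) b c) =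
      MvPolynomial.X (Fin.succ (swp m j)) := by
  unfold degQuadPoly
  rw [quadPoly_stdT]
  have h0 : MvPolynomial.pderiv (Fin.succ j) (MvPolynomial.X 0 : MvPolynomial (Fin (2 * m + 1)) R) = 0 :=
    MvPolynomial.pderiv_X_of_ne (Fin.succ_ne_zero j).symm
  rw [map_add, map_add, map_add, MvPolynomial.pderiv_C, Derivation.leibniz_pow, Derivation.leibniz,
    MvPolynomial.pderiv_C, h0, map_sum, map_sum]
  simp only [smul_zero, add_zero, zero_add, map_mul, MvPolynomial.rename_X, Derivation.leibniz,
    smul_eq_mul]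
  have h1 : ∀ i, MvPolynomial.pderiv (Fin.succ j) (MvPolynomial.X (Fin.succ i) :
      MvPolynomial (Fin (2 * m + 1)) R) = if i = j then 1 else 0 := by
    intro i
    split_ifs with h
    · rw [h, MvPolynomial.pderiv_X_self]
    · exact MvPolynomial.pderiv_X_of_ne fun h' => h (Fin.succ_injective _ h')
  simp only [h1]
  rcases eq_lo_or_hi j with ⟨i, rfl⟩ | ⟨i, rfl⟩
  · have hs : swp m (lo m i) = hi m i := by
      ext
      simp [swp, lo, hi]
    rw [hs, Finset.sum_eq_single i]
    · have h2 : hi m i ≠ lo m i := (lo_lt_hi i).ne'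
      simp [h2]
    · intro k _ hk
      have h2 : hi m k ≠ lo m i := by
        simp only [hi, lo, ne_eq, Fin.mk.injEq]
        omega
      have h3 : lo m k ≠ lo m i := fun h => hk (lo_injective h)
      simp [h2, h3]
    · intro h
      exact absurd (Finset.mem_univ _) h
  · have hs : swp m (hi m i) = lo m i := by
      ext
      simp [swp, lo, hi]
    rw [hs, Finset.sum_eq_single i]
    · have h2 : lo m i ≠ hi m i := (lo_lt_hi i).ne
      simp [h2]
    · intro k _ hk
      have h2 : lo m k ≠ hi m i := by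
        simp only [hi, lo, ne_eq, Fin.mk.injEq]
        omega
      have h3 : hi m k ≠ hi m i := fun h => hk (hi_injective h)
      simp [h2, h3]
    · intro h
      exact absurd (Finset.mem_univ _) h

theorem mem_smoothLocus_of_succ (x : Spec (CommRingCat.of (Bm R m b c))) (j : Fin (2 * m))
    (hx : dx R m b c (Fin.succ j) ∉ PrimeSpectrum.asIdeal x) :
    x ∈ (modelEven R m b c).smoothLocus := by
  have : Algebra.Smooth R (MvPolynomial (Fin (2 * m + 1)) R) := {}
  refine Vancyc.H543.SmLoc.mem_smoothLocus (degQuadPoly R (stdT R m) b c)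
    (MvPolynomial.X (Fin.succ j)) (MvPolynomial.pderiv (Fin.succ (swp m j))) ?_ x hx
  have h1 : swp m (swp m j) = j := by
    rcases eq_lo_or_hi j with ⟨i, rfl⟩ | ⟨i, rfl⟩ <;> ext <;> simp [swp, lo, hi]
  rw [pderiv_succ, h1, sub_self]
  exact Ideal.zero_mem _

theorem mem_smoothLocus_of_zero (x : Spec (CommRingCat.of (Bm R m b c)))
    (hx : 2 * dx R m b c 0 + algebraMap R _ b ∉ PrimeSpectrum.asIdeal x) :
    x ∈ (modelEven R m b c).smoothLocus := by
  have : Algebra.Smooth R (MvPolynomial (Fin (2 * m + 1)) R) := {}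
  refine Vancyc.H543.SmLoc.mem_smoothLocus (degQuadPoly R (stdT R m) b c)
    (2 * MvPolynomial.X 0 + MvPolynomial.C b) (MvPolynomial.pderiv 0) ?_ x ?_
  · rw [pderiv_zero, sub_self]
    exact Ideal.zero_mem _
  · have : Ideal.Quotient.mk (Ideal.span {degQuadPoly R (stdT R m) b c})
        (2 * MvPolynomial.X 0 + MvPolynomial.C b) = 2 * dx R m b c 0 + algebraMap R _ b := by
      rw [map_add, map_mul, map_ofNat]
      rfl
    rw [this]
    exact hx

end Alg

section Dvr

variable {R : Type u} [CommRing R] [IsDomain R] [IsDiscreteValuationRing R] {m : ℕ} {b c : R}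

/-- Smoothness outside of the singular point. -/
theorem mem_smoothLocus_of_ne (hb : b ∈ maximalIdeal R) (hd : b ^ 2 - 4 * c ≠ 0)
    (h : (b = 0 ∧ c ∈ maximalIdeal R ∧ IsUnit (2 : R)) ∨ (2 : R) ∈ maximalIdeal R)
    (x y : Spec (CommRingCat.of (Bm R m b c)))
    (hy : sideIdeal R (stdT R m) b c ≤ PrimeSpectrum.asIdeal y) (hxy : x ≠ y) :
    x ∈ (modelEven R m b c).smoothLocus := by
  by_contra hx
  have h1 : ∀ j, dx R m b c (Fin.succ j) ∈ PrimeSpectrum.asIdeal x := fun j => by
    by_contra h
    exact hx (mem_smoothLocus_of_succ x j h)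
  have h2 : 2 * dx R m b c 0 + algebraMap R _ b ∈ PrimeSpectrum.asIdeal x := by
    by_contra h
    exact hx (mem_smoothLocus_of_zero x h)
  have hp : (PrimeSpectrum.asIdeal x).IsPrime := PrimeSpectrum.isPrime x
  have h3 : algebraMap R (Bm R m b c) (b ^ 2 - 4 * c) ∈ PrimeSpectrum.asIdeal x := by
    have h4 : algebraMap R (Bm R m b c) (b ^ 2 - 4 * c) =
        (2 * dx R m b c 0 + algebraMap R _ b) * (2 * dx R m b c 0 + algebraMap R _ b) +
          4 * ∑ i, dx R m b c (Fin.succ (lo m i)) * dx R m b c (Fin.succ (hi m i)) := by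
      rw [map_sub, map_pow, map_mul, map_ofNat]
      linear_combination -4 * rel R m b c
    rw [h4]
    refine add_mem (Ideal.mul_mem_left _ _ h2) (Ideal.mul_mem_left _ _ (Ideal.sum_mem _ fun i _ => ?_))
    exact Ideal.mul_mem_right _ _ (h1 _)
  have h5 : ((PrimeSpectrum.asIdeal x).comap (algebraMap R (Bm R m b c))) = maximalIdeal R := by
    have h6 : ((PrimeSpectrum.asIdeal x).comap (algebraMap R (Bm R m b c))).IsPrime :=
      Ideal.comap_isPrime _ _
    have h7 : ((PrimeSpectrum.asIdeal x).comap (algebraMap R (Bm R m b c))) ≠ ⊥ := by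
      intro h8
      have h9 : b ^ 2 - 4 * c ∈ (PrimeSpectrum.asIdeal x).comap (algebraMap R (Bm R m b c)) := h3
      rw [h8] at h9
      exact hd h9
    exact IsLocalRing.eq_maximalIdeal (Ring.DimensionLEOne.maximalOfPrime h7 h6)
  apply hxy
  refine eq_of_sideIdeal_le hb h x y (sideIdeal_le (fun a ha => ?_) h1) hy
  rw [← h5] at ha
  exact ha

end Dvr

/-- The restriction to the smooth locus is smooth. -/
theorem smooth_smoothLocus {X Y : Scheme.{u}} (f : X ⟶ Y) [LocallyOfFinitePresentation f] :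
    Smooth (f.smoothLocus.ι ≫ f) := by
  rw [← Scheme.Hom.smoothLocus_eq_top_iff, ← Scheme.Hom.preimage_smoothLocus_eq]
  exact Scheme.Opens.ι_preimage_self _

end Groth.Agent.Vancyc.H694.ModelEven
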