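import Groth.Prelude.Def_QuadSing
import Groth.Agent.CurvesB.CplMap
import Mathlib.RingTheory.Localization.Basic

/-!
# Invariance of `IsOrdQuadSing` and `IsOrdQuadPt` under isomorphisms
-/

set_option autoImplicit false
universe u

open VanCyc IsLocalRing

open scoped TensorProduct

namespace Groth.Agent.Vancyc.H694.PtEquiv

section Sing

variable {k : Type u} [Field k] {O O' : Type u} [CommRing O] [CommRing O'] [IsLocalRing O]
  [IsLocalRing O'] [Algebra k O] [Algebra k O']

/-- Completions of isomorphic local `k`-algebras. -/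
lemma nonempty_completion (e : O ≃ₐ[k] O') :
    Nonempty (AdicCompletion (maximalIdeal O) O ≃ₐ[k] AdicCompletion (maximalIdeal O') O') := by
  refine ⟨AlgEquiv.ofRingEquiv (f := Groth.Agent.CurvesB.CplMap.congrLocal e.toRingEquiv)
    fun c => ?_⟩
  rw [IsScalarTower.algebraMap_apply k O (AdicCompletion (maximalIdeal O) O),
    Groth.Agent.CurvesB.CplMap.congrLocal_algebraMap,
    IsScalarTower.algebraMap_apply k O' (AdicCompletion (maximalIdeal O') O')]
  congr 1
  exact e.commutes c

lemma isOrdQuadSing_of_algEquiv (e : O ≃ₐ[k] O') {n : ℕ} (h : IsOrdQuadSing k O n) :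
    IsOrdQuadSing k O' n := by
  obtain ⟨f, hf, ⟨e'⟩⟩ := h
  obtain ⟨c⟩ := nonempty_completion e
  exact ⟨f, hf, ⟨c.symm.trans e'⟩⟩

lemma isNondegQuadSing_of_algEquiv (e : O ≃ₐ[k] O') {n : ℕ} (h : IsNondegQuadSing k O n) :
    IsNondegQuadSing k O' n := by
  obtain ⟨f, hf, ⟨e'⟩⟩ := h
  obtain ⟨c⟩ := nonempty_completion e
  exact ⟨f, hf, ⟨c.symm.trans e'⟩⟩

end Sing

section Pt

/-- Localizations at corresponding primes. -/
lemma nonempty_localization {K A B : Type u} [CommRing K] [CommRing A] [CommRing B] [Algebra K A]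
    [Algebra K B] (E : A ≃ₐ[K] B) (M : Ideal B) [M.IsPrime] [(M.comap E).IsPrime] :
    Nonempty (Localization.AtPrime (M.comap E) ≃ₐ[K] Localization.AtPrime M) := by
  refine ⟨IsLocalization.algEquivOfAlgEquiv (M := (M.comap E).primeCompl) (T := M.primeCompl)
    (Localization.AtPrime (M.comap E)) (Localization.AtPrime M) E ?_⟩
  ext b
  constructor
  · rintro ⟨a, ha, rfl⟩
    exact ha
  · intro hb
    refine ⟨E.symm b, ?_, ?_⟩
    · intro h
      apply hb
      have h1 : E (E.symm b) ∈ M := h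
      rwa [E.apply_symm_apply] at h1
    · exact E.apply_symm_apply b

variable {k : Type u} [Field k] {O O' : Type u} [CommRing O] [CommRing O']

lemma isOrdQuadPt_of_equiv (φ : k →+* O) (φ' : k →+* O') (e : O ≃+* O')
    (h : ∀ c, e (φ c) = φ' c) {n : ℕ} (hO : IsOrdQuadPt φ n) : IsOrdQuadPt φ' n := by
  let _ := φ.toAlgebra
  let _ := φ'.toAlgebra
  intro M hM
  let e' : O ≃ₐ[k] O' := AlgEquiv.ofRingEquiv (f := e) h
  let E : AlgebraicClosure k ⊗[k] O ≃ₐ[AlgebraicClosure k] AlgebraicClosure k ⊗[k] O' :=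
    Algebra.TensorProduct.congr AlgEquiv.refl e'
  have hM' : (M.comap E).IsMaximal := Ideal.comap_isMaximal_of_equiv E
  obtain ⟨l⟩ := nonempty_localization E M
  exact isOrdQuadSing_of_algEquiv l (hO (M.comap E))

end Pt

end Groth.Agent.Vancyc.H694.PtEquiv
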