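import Groth.Prelude.Def_VanCyc
import Groth.Prelude.Def_QuadSing
import Groth.Agent.Vancyc.H694.PtEquiv
import Mathlib.AlgebraicGeometry.Pullbacks
import Mathlib.AlgebraicGeometry.Morphisms.Smooth
import Mathlib.AlgebraicGeometry.Morphisms.FiniteType
import Mathlib.AlgebraicGeometry.Morphisms.Flat
import Mathlib.AlgebraicGeometry.ResidueField

/-!
# The local ring of the special fibre in an affine chart

For an open immersion `j : Spec B ⟶ X` over `f : X ⟶ Spec R`, `R` local, the special fibre of `X`
is near the points of `Spec B` the spectrum of `fibQuot R B = B / 𝔪_R B`, and its local ring at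
the point over a prime `P ⊇ 𝔪_R B` is `fibQuot R B_P`, compatibly with the structure maps from the
residue field (`resHom` and `fibHom`).
-/

set_option autoImplicit false
universe u

open CategoryTheory CategoryTheory.Limits AlgebraicGeometry IsLocalRing VanCyc

namespace Groth.Agent.Vancyc.H694.Chart

section Pushout

variable (R B : Type u) [CommRing R] [IsLocalRing R] [CommRing B] [Algebra R B]

lemma fibHom_residue (r : R) : fibHom R B (residue R r) =
    Ideal.Quotient.mk ((maximalIdeal R).map (algebraMap R B)) (algebraMap R B r) := rfl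

lemma isPushout_fib : IsPushout (CommRingCat.ofHom (algebraMap R B)) (CommRingCat.ofHom (residue R))
    (CommRingCat.ofHom (Ideal.Quotient.mk ((maximalIdeal R).map (algebraMap R B))) :
      CommRingCat.of B ⟶ CommRingCat.of (fibQuot R B))
    (CommRingCat.ofHom (fibHom R B)) := by
  refine ⟨⟨?_⟩, ⟨PushoutCocone.IsColimit.mk _ (fun s => CommRingCat.ofHom
    (Ideal.Quotient.lift _ s.inl.hom ?_)) ?_ ?_ ?_⟩⟩
  · ext r
    rfl
  · intro b hb
    have h1 : (maximalIdeal R).map (algebraMap R B) ≤ RingHom.ker s.inl.hom := by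
      rw [Ideal.map_le_iff_le_comap]
      intro r hr
      rw [Ideal.mem_comap, RingHom.mem_ker]
      have h2 := congr(($s.condition).hom r)
      change s.inl.hom (algebraMap R B r) = s.inr.hom (residue R r) at h2
      rw [h2, (residue_eq_zero_iff r).2 hr, map_zero]
    exact h1 hb
  · intro s
    ext b
    rfl
  · intro s
    ext x
    obtain ⟨r, rfl⟩ := residue_surjective (R := R) x
    have h2 := congr(($s.condition).hom r)
    exact h2
  · intro s m h1 h2
    ext b
    exact congr(($h1).hom b)

end Pushout

section Stalk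

variable {R : Type u} [CommRing R] [IsLocalRing R] {X : Scheme.{u}}
  (f : X ⟶ Spec (CommRingCat.of R)) (B : Type u) [CommRing B] [Algebra R B]
  (j : Spec (CommRingCat.of B) ⟶ X)
  (hj : j ≫ f = Spec.map (CommRingCat.ofHom (algebraMap R B)))

/-- The chart of the special fibre. -/
noncomputable def fibChart : Spec (CommRingCat.of (fibQuot R B)) ⟶ spFib R f :=
  pullback.lift (Spec.map (CommRingCat.ofHom (Ideal.Quotient.mk _)) ≫ j)
    (Spec.map (CommRingCat.ofHom (fibHom R B))) (by
      rw [Category.assoc, hj]
      exact (isPullback_SpecMap_of_isPushout _ _ _ _ (isPushout_fib R B)).w)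

@[reassoc (attr := simp)]
lemma fibChart_icl : fibChart f B j hj ≫ icl R f =
    Spec.map (CommRingCat.ofHom (Ideal.Quotient.mk _)) ≫ j := pullback.lift_fst _ _ _

@[reassoc (attr := simp)]
lemma fibChart_spStr : fibChart f B j hj ≫ spStr R f =
    Spec.map (CommRingCat.ofHom (fibHom R B)) := pullback.lift_snd _ _ _

lemma isPullback_fibChart : IsPullback (fibChart f B j hj)
    (Spec.map (CommRingCat.ofHom (Ideal.Quotient.mk _))) (icl R f) j := by
  have h1 := isPullback_SpecMap_of_isPushout _ _ _ _ (isPushout_fib R B)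
  have h2 : IsPullback (spStr R f) (icl R f) (toSk R) f := (IsPullback.of_hasPullback f (toSk R)).flip
  refine IsPullback.of_right (h₁₂ := spStr R f) (h₂₂ := f) (v₁₃ := toSk R) ?_ ?_ h2
  · rw [fibChart_spStr, hj]
    exact h1.flip
  · exact fibChart_icl f B j hj

instance isOpenImmersion_fibChart [IsOpenImmersion j] : IsOpenImmersion (fibChart f B j hj) :=
  MorphismProperty.of_isPullback (isPullback_fibChart f B j hj).flip inferInstance

end Stalk

section ResHom

variable {k : Type u} [Field k] {Y Y' : Scheme.{u}}

/-- Naturality of `resHom`. -/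
lemma stalkMap_resHom (g : Y' ⟶ Y) (s : Y ⟶ Spec (CommRingCat.of k)) (y : Y') (c : k) :
    (g.stalkMap y).hom (resHom s (g y) c) = resHom (g ≫ s) y c := by
  unfold resHom
  simp only [RingHom.comp_apply]
  have h1 := congr(($(Scheme.Hom.germ_stalkMap g ⊤ y trivial)).hom
    (s.appTop.hom ((Scheme.ΓSpecIso (CommRingCat.of k)).inv.hom c)))
  refine h1.trans ?_
  rfl

/-- `resHom` for affine schemes. -/
lemma resHom_Spec {A : Type u} [CommRing A] (φ : k →+* A) (z : Spec (CommRingCat.of A)) (c : k) :
    resHom (Spec.map (CommRingCat.ofHom φ)) z c =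
      algebraMap A ((Spec.structureSheaf (CommRingCat.of A)).presheaf.stalk z) (φ c) := by
  unfold resHom
  simp only [RingHom.comp_apply]
  have h2 : (Spec.map (CommRingCat.ofHom φ)).appTop.hom
      ((Scheme.ΓSpecIso (CommRingCat.of k)).inv.hom c) =
      (Scheme.ΓSpecIso (CommRingCat.of A)).inv.hom (φ c) := by
    have := congr(($(Scheme.ΓSpecIso_inv_naturality (CommRingCat.ofHom φ))).hom c)
    exact this.symm
  rw [h2]
  rfl

end ResHom

section Loc

variable (R B : Type u) [CommRing R] [IsLocalRing R] [CommRing B] [Algebra R B]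

/-- The local rings of `B / 𝔪_R B` are the rings `B_P / 𝔪_R B_P`. -/
lemma exists_localization_equiv (P : Ideal B) [P.IsPrime] (z : Ideal (fibQuot R B)) [z.IsPrime]
    (hz : z.comap (Ideal.Quotient.mk _) = P) (T : Type u) [CommRing T] [Algebra (fibQuot R B) T]
    [IsLocalization.AtPrime T z] :
    ∃ e : T ≃+* fibQuot R (Localization.AtPrime P),
      ∀ c, e (algebraMap (fibQuot R B) T (fibHom R B c)) = fibHom R (Localization.AtPrime P) c := by
  let I : Ideal B := (maximalIdeal R).map (algebraMap R B)
  have hI : I.map (algebraMap B (Localization.AtPrime P)) =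
      (maximalIdeal R).map (algebraMap R (Localization.AtPrime P)) := by
    rw [Ideal.map_map, ← IsScalarTower.algebraMap_eq]
  let T' := Localization.AtPrime P ⧸ I.map (algebraMap B (Localization.AtPrime P))
  have h1 : IsLocalization (Algebra.algebraMapSubmonoid (B ⧸ I) P.primeCompl) T' := inferInstance
  have h2 : Algebra.algebraMapSubmonoid (B ⧸ I) P.primeCompl = z.primeCompl := by
    ext x
    constructor
    · rintro ⟨b, hb, rfl⟩ hbz
      apply hb
      rw [← hz]
      exact hbz
    · intro hx
      obtain ⟨b, rfl⟩ := Ideal.Quotient.mk_surjective x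
      refine ⟨b, fun hb => hx ?_, rfl⟩
      rw [← hz] at hb
      exact hb
  have h3 : IsLocalization.AtPrime T' z := by
    rw [IsLocalization.AtPrime, ← h2]
    exact h1
  let e1 : T ≃ₐ[fibQuot R B] T' := IsLocalization.algEquiv z.primeCompl T T'
  let e2 : T' ≃+* fibQuot R (Localization.AtPrime P) := Ideal.quotEquivOfEq hI
  refine ⟨e1.toRingEquiv.trans e2, fun c => ?_⟩
  obtain ⟨r, rfl⟩ := residue_surjective (R := R) c
  have h4 : e1 (algebraMap (fibQuot R B) T (fibHom R B (residue R r))) =
      algebraMap (fibQuot R B) T' (fibHom R B (residue R r)) := e1.commutes _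
  change e2 (e1 _) = _
  rw [h4]
  rfl

end Loc

section Main

variable {R : Type u} [CommRing R] [IsLocalRing R] {X : Scheme.{u}}
  (f : X ⟶ Spec (CommRingCat.of R)) (B : Type u) [CommRing B] [Algebra R B]
  (j : Spec (CommRingCat.of B) ⟶ X) [IsOpenImmersion j]
  (hj : j ≫ f = Spec.map (CommRingCat.ofHom (algebraMap R B)))

include hj in
/-- The local ring of the special fibre, for a point over a prime of a chart. -/
theorem exists_stalk_equiv (x : ↥(spFib R f)) (P : PrimeSpectrum B)
    (hx : (icl R f).base x = j P) :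
    ∃ e : (spFib R f).presheaf.stalk x ≃+* fibQuot R (Localization.AtPrime P.asIdeal),
      ∀ c, e (resHom (spStr R f) x c) = fibHom R (Localization.AtPrime P.asIdeal) c := by
  obtain ⟨z, hz1, hz2⟩ := Scheme.Pullback.exists_preimage_pullback (f := icl R f) (g := j) x P hx
  obtain ⟨w, hw⟩ : ∃ w : Spec (CommRingCat.of (fibQuot R B)), 
      (isPullback_fibChart f B j hj).isoPullback.hom w = z := by
    have : Function.Surjective (isPullback_fibChart f B j hj).isoPullback.hom :=
      (inferInstance : Surjective (isPullback_fibChart f B j hj).isoPullback.hom).surj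
    exact this z
  have hwx : fibChart f B j hj w = x := by
    rw [← hz1, ← hw, ← Scheme.Hom.comp_apply, IsPullback.isoPullback_hom_fst]
  have hwP : Spec.map (CommRingCat.ofHom (Ideal.Quotient.mk
      ((maximalIdeal R).map (algebraMap R B)))) w = P := by
    rw [← hz2, ← hw, ← Scheme.Hom.comp_apply, IsPullback.isoPullback_hom_snd]
  subst hwx
  have h1 : IsLocalization.AtPrime
      ((Spec.structureSheaf (CommRingCat.of (fibQuot R B))).presheaf.stalk w)
      (PrimeSpectrum.asIdeal w) := inferInstance
  obtain ⟨e, he⟩ := exists_localization_equiv R B P.asIdeal (PrimeSpectrum.asIdeal w) (by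
    rw [← hwP]
    rfl) ((Spec.structureSheaf (CommRingCat.of (fibQuot R B))).presheaf.stalk w)
  let e0 : (spFib R f).presheaf.stalk (fibChart f B j hj w) ≃+*
      ((Spec.structureSheaf (CommRingCat.of (fibQuot R B))).presheaf.stalk w) :=
    (asIso ((fibChart f B j hj).stalkMap w)).commRingCatIsoToRingEquiv
  refine ⟨e0.trans e, fun c => ?_⟩
  have h2 : e0 (resHom (spStr R f) (fibChart f B j hj w) c) =
      algebraMap (fibQuot R B) _ (fibHom R B c) := by
    refine (stalkMap_resHom (fibChart f B j hj) (spStr R f) w c).trans ?_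
    rw [← resHom_Spec (fibHom R B) w c, fibChart_spStr f B j hj]
  rw [RingEquiv.trans_apply, h2, he]

include hj in
/-- Transport of the quadratic point hypothesis to the algebraic form. -/
theorem isOrdQuadPt_fibHom (x : ↥(spFib R f)) (P : PrimeSpectrum B)
    (hx : (icl R f).base x = j P) {n : ℕ} (hq : IsOrdQuadPt (resHom (spStr R f) x) n) :
    IsOrdQuadPt (fibHom R (Localization.AtPrime P.asIdeal)) n := by
  obtain ⟨e, he⟩ := exists_stalk_equiv f B j hj x P hx
  exact PtEquiv.isOrdQuadPt_of_equiv _ _ e he hq

end Main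

end Groth.Agent.Vancyc.H694.Chart
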