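import Groth.Prelude.Def_EtBase
import Groth.Agent.Vancyc.H694.Chart
import Mathlib.AlgebraicGeometry.Morphisms.ClosedImmersion
import Mathlib.AlgebraicGeometry.Morphisms.FinitePresentation
import Mathlib.FieldTheory.PurelyInseparable.Basic
import Mathlib.RingTheory.Jacobson.Ring
import Mathlib.RingTheory.Noetherian.Basic

/-!
# An affine chart at a closed point of the special fibre

`exists_chart` : for `f : X ⟶ Spec R` flat and locally of finite type over a Noetherian local ring
with separably closed residue field and a closed point `x` of the special fibre, there is an open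
immersion `Spec B ⟶ X` in a given open, `B` finitely presented and flat over `R`, with `x` given by a
maximal ideal `P` with `B / P` purely inseparable over the residue field, and the hypothesis
`IsOrdQuadPt (resHom (spStr R f) x) n` becomes `IsOrdQuadPt (fibHom R B_P) n`.
-/

set_option autoImplicit false
universe u

open CategoryTheory CategoryTheory.Limits AlgebraicGeometry IsLocalRing VanCyc

namespace Groth.Agent.Vancyc.H694.ChartPt

section Insep

variable (R : Type u) [CommRing R] [IsLocalRing R] [IsSepClosed (ResidueField R)]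

/-- Finite type algebras: residue fields at maximal ideals over the maximal ideal are purely
inseparable. -/
lemma exists_pow_sub_mem (B : Type u) [CommRing B] [Algebra R B] [Algebra.FiniteType R B]
    (P : Ideal B) [P.IsMaximal] (hP : (maximalIdeal R).map (algebraMap R B) ≤ P) (y : B) :
    ∃ (e : ℕ) (c : R), y ^ ringExpChar (ResidueField R) ^ e - algebraMap R B c ∈ P := by
  let _ : Field (B ⧸ P) := Ideal.Quotient.field P
  let φ : ResidueField R →+* B ⧸ P := Ideal.Quotient.lift (maximalIdeal R)
    ((Ideal.Quotient.mk P).comp (algebraMap R B)) (by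
      intro r hr
      rw [RingHom.comp_apply, Ideal.Quotient.eq_zero_iff_mem]
      exact hP (Ideal.mem_map_of_mem _ hr))
  have hφ : ∀ r : R, φ (residue R r) = Ideal.Quotient.mk P (algebraMap R B r) := fun _ => rfl
  let _ : Algebra (ResidueField R) (B ⧸ P) := φ.toAlgebra
  have hT : IsScalarTower R (ResidueField R) (B ⧸ P) := IsScalarTower.of_algebraMap_eq fun r => rfl
  have h1 : Algebra.FiniteType R (B ⧸ P) := Algebra.FiniteType.trans (S := B) inferInstance
    (Algebra.FiniteType.of_surjective (Ideal.Quotient.mkₐ B P) Ideal.Quotient.mk_surjective)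
  have h2 : Algebra.FiniteType (ResidueField R) (B ⧸ P) :=
    Algebra.FiniteType.of_restrictScalars_finiteType R (ResidueField R) (B ⧸ P)
  have h3 : Module.Finite (ResidueField R) (B ⧸ P) :=
    finite_of_finite_type_of_isJacobsonRing (ResidueField R) (B ⧸ P)
  have h4 : IsPurelyInseparable (ResidueField R) (B ⧸ P) := inferInstance
  obtain ⟨e, c, hc⟩ := IsPurelyInseparable.pow_mem (ResidueField R)
    (ringExpChar (ResidueField R)) (Ideal.Quotient.mk P y)
  obtain ⟨r, rfl⟩ := residue_surjective c
  refine ⟨e, r, ?_⟩
  rw [← Ideal.Quotient.eq_zero_iff_mem, map_sub, map_pow, ← hc, sub_eq_zero]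
  rfl

end Insep

section Chart

variable (R : Type u) [CommRing R] [IsLocalRing R] [IsNoetherianRing R]
  [IsSepClosed (ResidueField R)]

lemma isClosedImmersion_icl {X : Scheme.{u}} (f : X ⟶ Spec (CommRingCat.of R)) :
    IsClosedImmersion (icl R f) := by
  have h1 : IsClosedImmersion (toSk R) :=
    IsClosedImmersion.spec_of_surjective _ residue_surjective
  infer_instance

lemma toSk_apply (z : Spec (CommRingCat.of (ResidueField R))) : toSk R z = closedPoint R := by
  apply PrimeSpectrum.ext
  change Ideal.comap (residue R) (PrimeSpectrum.asIdeal z) = maximalIdeal R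
  have h1 : PrimeSpectrum.asIdeal z = ⊥ := by
    have := (PrimeSpectrum.isPrime z)
    exact (Ideal.eq_bot_or_top (PrimeSpectrum.asIdeal z)).resolve_right this.ne_top
  rw [h1]
  ext r
  rw [Ideal.mem_comap, Ideal.mem_bot, residue_eq_zero_iff]

theorem exists_chart {X : Scheme.{u}} (f : X ⟶ Spec (CommRingCat.of R)) [LocallyOfFiniteType f]
    [Flat f] (x : ↥(spFib R f)) (hxc : IsClosed ({x} : Set ↥(spFib R f)))
    (V : X.Opens) (hxV : (icl R f).base x ∈ V) :
    ∃ (B : Type u) (_ : CommRing B) (_ : Algebra R B) (P : Ideal B) (hP : P.IsMaximal)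
      (j : Spec (CommRingCat.of B) ⟶ X),
      Algebra.FinitePresentation R B ∧ IsOpenImmersion j ∧
      j ≫ f = Spec.map (CommRingCat.ofHom (algebraMap R B)) ∧ Set.range j ⊆ V ∧
      j (⟨P, hP.isPrime⟩ : PrimeSpectrum B) = (icl R f).base x ∧
      (maximalIdeal R).map (algebraMap R B) ≤ P ∧ Module.Flat R B ∧
      (∀ y : B, ∃ (e : ℕ) (c : R),
        y ^ ringExpChar (ResidueField R) ^ e - algebraMap R B c ∈ P) ∧
      ∀ n : ℕ, IsOrdQuadPt (resHom (spStr R f) x) n →
        IsOrdQuadPt (fibHom R (Localization.AtPrime P)) n := by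
  obtain ⟨W, hW, hxW, hWV⟩ := exists_isAffineOpen_mem_and_subset (U := V) hxV
  let B : Type u := Γ(X, W)
  let φ : CommRingCat.of R ⟶ CommRingCat.of B := Spec.preimage (hW.fromSpec ≫ f)
  have hφ : Spec.map φ = hW.fromSpec ≫ f := Spec.map_preimage _
  let _ : Algebra R B := φ.hom.toAlgebra
  let j : Spec (CommRingCat.of B) ⟶ X := hW.fromSpec
  have hj : j ≫ f = Spec.map (CommRingCat.ofHom (algebraMap R B)) := hφ.symm
  have hjo : IsOpenImmersion j := inferInstanceAs (IsOpenImmersion hW.fromSpec)
  obtain ⟨p, hp⟩ : ∃ p : Spec (CommRingCat.of B), j p = (icl R f).base x := by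
    have : (icl R f).base x ∈ Set.range hW.fromSpec := by
      rw [hW.range_fromSpec]
      exact hxW
    exact this
  let P : Ideal B := PrimeSpectrum.asIdeal p
  have hicl := isClosedImmersion_icl R f
  have hcl : IsClosed ({(icl R f).base x} : Set X) := by
    have := (icl R f).isClosedEmbedding.isClosedMap _ hxc
    rwa [Set.image_singleton] at this
  have hP : P.IsMaximal := by
    have h1 : IsClosed ({p} : Set (PrimeSpectrum B)) := by
      have h2 : ({p} : Set (PrimeSpectrum B)) = j ⁻¹' {(icl R f).base x} := by
        ext q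
        constructor
        · rintro rfl
          exact hp
        · intro hq
          exact j.isOpenEmbedding.injective (hq.trans hp.symm)
      rw [h2]
      exact hcl.preimage j.continuous
    exact (PrimeSpectrum.isClosed_singleton_iff_isMaximal p).1 h1
  have hmP : (maximalIdeal R).map (algebraMap R B) ≤ P := by
    rw [Ideal.map_le_iff_le_comap]
    have h1 : (Spec.map (CommRingCat.ofHom (algebraMap R B))) p = closedPoint R := by
      rw [← hj, Scheme.Hom.comp_apply, hp]
      have h2 : (icl R f ≫ f) x = closedPoint R := by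
        rw [pullback.condition, Scheme.Hom.comp_apply]
        exact toSk_apply R _
      rw [← h2, Scheme.Hom.comp_apply]
    have h3 : (maximalIdeal R) = P.comap (algebraMap R B) := (congrArg PrimeSpectrum.asIdeal h1).symm
    exact h3.le
  have hft : Algebra.FiniteType R B := by
    have h1 : LocallyOfFiniteType (Spec.map (CommRingCat.ofHom (algebraMap R B))) := by
      rw [← hj]; infer_instance
    exact (HasRingHomProperty.Spec_iff (P := @LocallyOfFiniteType)).1 h1
  have hfl : Module.Flat R B := by
    have h1 : Flat (Spec.map (CommRingCat.ofHom (algebraMap R B))) := by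
      rw [← hj]; infer_instance
    exact (HasRingHomProperty.Spec_iff (P := @Flat)).1 h1
  refine ⟨B, inferInstance, inferInstance, P, hP, j, Algebra.FinitePresentation.of_finiteType.1 hft,
    hjo, hj, ?_, hp, hmP, hfl, exists_pow_sub_mem R B P hmP, ?_⟩
  · exact (hW.range_fromSpec).le.trans hWV
  · intro n hq
    exact Chart.isOrdQuadPt_fibHom f B j hj x p hp.symm hq

end Chart

end Groth.Agent.Vancyc.H694.ChartPt
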