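import Groth.Agent.S0115
import Groth.Agent.Vancyc.H694.StdT

/-!
# Smoothness of the generic fibre near a point, transported to an étale neighbour

`exists_opens_smooth` : if `(X, x)` and `(Y, y)` have a common étale neighbourhood over `S` and
`V ×_S T ⟶ T` is smooth for an open `V ∋ x`, then `W ×_S T ⟶ T` is smooth for an open `W ∋ y`.
-/

set_option autoImplicit false
universe u

open CategoryTheory CategoryTheory.Limits AlgebraicGeometry

namespace Groth.Agent.Vancyc.H694.Generic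

/-- The base change `A ×_S T ⟶ B ×_S T` of `a : A ⟶ B`. -/
noncomputable def bcMap {A B S T : Scheme.{u}} (a : A ⟶ B) (b : B ⟶ S) (c : A ⟶ S) (w : a ≫ b = c)
    (t : T ⟶ S) : pullback c t ⟶ pullback b t :=
  pullback.map c t b t a (𝟙 T) (𝟙 S) (by rw [Category.comp_id, w]) (by simp)

lemma bcMap_snd {A B S T : Scheme.{u}} (a : A ⟶ B) (b : B ⟶ S) (c : A ⟶ S) (w : a ≫ b = c)
    (t : T ⟶ S) : bcMap a b c w t ≫ pullback.snd b t = pullback.snd c t := by
  unfold bcMap pullback.map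
  rw [pullback.lift_snd, Category.comp_id]

lemma bcMap_fst {A B S T : Scheme.{u}} (a : A ⟶ B) (b : B ⟶ S) (c : A ⟶ S) (w : a ≫ b = c)
    (t : T ⟶ S) : bcMap a b c w t ≫ pullback.fst b t = pullback.fst c t ≫ a := by
  unfold bcMap pullback.map
  rw [pullback.lift_fst]

lemma isPullback_bcMap {A B S T : Scheme.{u}} (a : A ⟶ B) (b : B ⟶ S) (c : A ⟶ S) (w : a ≫ b = c)
    (t : T ⟶ S) : IsPullback (bcMap a b c w t) (pullback.fst c t) (pullback.fst b t) a := by
  subst w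
  refine IsPullback.of_right (h₁₂ := pullback.snd b t) (v₁₃ := t) (h₂₂ := b) ?_ ?_
    (IsPullback.of_hasPullback b t).flip
  · rw [bcMap_snd]
    exact (IsPullback.of_hasPullback (a ≫ b) t).flip
  · exact bcMap_fst _ _ _ _ _

theorem exists_opens_smooth {S T X Y U : Scheme.{u}} (f : X ⟶ S) (g : Y ⟶ S) (t : T ⟶ S)
    (p : U ⟶ X) (q : U ⟶ Y) [Etale p] [Etale q] (w : p ≫ f = q ≫ g) (V : X.Opens)
    (hV : Smooth (pullback.snd (V.ι ≫ f) t)) (z : U) (hz : p z ∈ V) :
    ∃ W : Y.Opens, q z ∈ W ∧ Smooth (pullback.snd (W.ι ≫ g) t) := by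
  let U' : U.Opens := p ⁻¹ᵁ V
  let q' : (U' : Scheme.{u}) ⟶ Y := U'.ι ≫ q
  let W : Y.Opens := ⟨Set.range q', q'.isOpenMap.isOpen_range⟩
  have hzW : q z ∈ W := ⟨⟨z, hz⟩, by
    change (U'.ι ≫ q) _ = _
    rw [Scheme.Hom.comp_apply]
    rfl⟩
  have hr : Set.range q' ⊆ Set.range W.ι := by
    rw [Scheme.Opens.range_ι]
    exact subset_rfl
  let h : (U' : Scheme.{u}) ⟶ W := IsOpenImmersion.lift W.ι q' hr
  have hh : h ≫ W.ι = q' := IsOpenImmersion.lift_fac _ _ _
  have het : Etale h := by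
    have : Etale (h ≫ W.ι) := by rw [hh]; infer_instance
    exact Etale.of_comp h W.ι
  have hsurj : Surjective h := by
    refine ⟨fun y => ?_⟩
    obtain ⟨u, hu⟩ := y.2
    refine ⟨u, ?_⟩
    apply W.ι.isOpenEmbedding.injective
    rw [← Scheme.Hom.comp_apply, hh, hu]
    rfl
  -- the `V` side
  let p' : (U' : Scheme.{u}) ⟶ V := p ∣_ V
  have hp' : p' ≫ V.ι = U'.ι ≫ p := by
    exact morphismRestrict_ι p V
  have e1 : p' ≫ V.ι ≫ f = h ≫ W.ι ≫ g := by
    rw [← Category.assoc, hp', ← Category.assoc, hh, Category.assoc, w]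
    simp only [q', Category.assoc]
  have h1 : Smooth (bcMap p' (V.ι ≫ f) _ rfl t ≫ pullback.snd (V.ι ≫ f) t) := by
    have h2 : Smooth (bcMap p' (V.ι ≫ f) _ rfl t) :=
      MorphismProperty.of_isPullback (isPullback_bcMap p' (V.ι ≫ f) _ rfl t).flip
        (inferInstance : Smooth p')
    infer_instance
  rw [bcMap_snd] at h1
  refine ⟨W, hzW, ?_⟩
  have h2 : Smooth (pullback.snd (h ≫ W.ι ≫ g) t) := by
    rw [← e1]; exact h1
  have h3 : Etale (bcMap h (W.ι ≫ g) _ rfl t) :=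
    MorphismProperty.of_isPullback (isPullback_bcMap h (W.ι ≫ g) _ rfl t).flip het
  have h4 : Surjective (bcMap h (W.ι ≫ g) _ rfl t) :=
    MorphismProperty.of_isPullback (isPullback_bcMap h (W.ι ≫ g) _ rfl t).flip hsurj
  have h5 : Smooth (bcMap h (W.ι ≫ g) _ rfl t ≫ pullback.snd (W.ι ≫ g) t) := by
    rw [bcMap_snd]; exact h2
  exact Groth.Agent.S0115.result (bcMap h (W.ι ≫ g) _ rfl t) (pullback.snd (W.ι ≫ g) t)

end Groth.Agent.Vancyc.H694.Generic
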