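import Groth.Agent.Vancyc.H881.GalEven
import Groth.Agent.Vancyc.H685.EvenHC
import Groth.Agent.Vancyc.H263.LinearFib
import Groth.Agent.Sga4B.HTools
import Groth.Agent.Etrest.SHPoint
import Groth.Agent.Etrest.ConstBasic
import Groth.Agent.Vancyc.H686.EvenVan
import Groth.Agent.Vancyc.H459.SphereModel
import Groth.Agent.Vancyc.H681.ScalC

/-!
# The Galois action on the middle cohomology of the even split model is by signs
-/

set_option autoImplicit false
universe u
open CategoryTheory CategoryTheory.Limits AlgebraicGeometry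
open scoped Groth.Agent.Etcore.EtInst
open Groth.Agent.Etcore.EtInst Groth.Agent.Etcore.HpullCalc Groth.Agent.Etcore.HC

namespace Groth.Agent.Vancyc.H694.GalSign

open Groth.Agent.Vancyc.H694.StdT Groth.Agent.Vancyc.H881.Bund Groth.Agent.Vancyc.H881.GalEven
  Groth.Agent.Vancyc.H685.StdModel

/-- An automorphism fixes or exchanges the roots of a quadratic polynomial. -/
theorem fix_or_swap {K Ω : Type*} [Field K] [Field Ω] [Algebra K Ω] (b c α β : Ω) (σ : Ω ≃ₐ[K] Ω)
    (hb : σ b = b) (hc : σ c = c) (h1 : α + β = -b) (h2 : α * β = c) :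
    (σ α = α ∧ σ β = β) ∨ (σ α = β ∧ σ β = α) := by
  have e1 : σ α + σ β = -b := by rw [← map_add, h1, map_neg, hb]
  have e2 : σ α * σ β = c := by rw [← map_mul, h2, hc]
  have e3 : (σ α - α) * (σ α - β) = 0 := by
    have : (σ α - α) * (σ α - β) = σ α * (σ α - (α + β)) + α * β := by ring
    rw [this, h1, h2, ← e1, ← e2]
    ring
  rcases mul_eq_zero.1 e3 with h | h
  · left
    have h3 : σ α = α := sub_eq_zero.1 h
    refine ⟨h3, ?_⟩
    rw [h3, ← h1] at e1
    exact add_left_cancel e1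
  · right
    have h3 : σ α = β := sub_eq_zero.1 h
    refine ⟨h3, ?_⟩
    rw [h3, ← h1, add_comm] at e1
    exact add_right_cancel e1

/-- Affine space over a separably closed field has no cohomology in positive degrees. -/
theorem subsingleton_aff {Ω : Type u} [Field Ω] [IsSepClosed Ω] {N : ℕ} (hN : (N : Ω) ≠ 0) (m q : ℕ)
    (hq : 0 < q) : Subsingleton (EtCoh.H (Spec (CommRingCat.of (MvPolynomial (Fin m) Ω)))
      (EtCoh.const _ (ZMod N)) q) := by
  let p : Spec (CommRingCat.of (MvPolynomial (Fin m) Ω)) ⟶ Spec (CommRingCat.of Ω) :=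
    Spec.map (CommRingCat.ofHom (algebraMap Ω (MvPolynomial (Fin m) Ω)))
  have h : Groth.Agent.Vancyc.H263.AffBundle.IsAff m p :=
    Groth.Agent.Vancyc.H263.LinearFib.isAff_of_algEquiv AlgEquiv.refl
  have hu : IsUnit (N : Γ(Spec (CommRingCat.of Ω), ⊤)) := by
    have h3 : IsUnit (N : Ω) := IsUnit.mk0 _ hN
    have h4 := h3.map (Scheme.ΓSpecIso (CommRingCat.of Ω)).inv.hom
    rwa [map_natCast] at h4
  have h1 : PreservesFiniteLimits (EtCoh.pull p) := Groth.Agent.S0101.result _
  have h2 := (h.acyc hu).Hpull_bijective (EtCoh.const _ (ZMod N))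
    (Groth.Agent.Etrest.ConstBasic.killedBy_const _ (ZMod N) N (fun m => by simp)) q
  have h3 := Groth.Agent.Etrest.SHPoint.subsingleton_H_of_sepClosed Ω (EtCoh.const _ (ZMod N)) q hq
  exact Groth.Agent.Sga4B.HTools.subsingleton_H_of_iso (EtCore.pullConst p (ZMod N)) q
    h2.2.subsingleton

variable (R K Ω : Type u) [CommRing R] [IsDomain R] [HenselianLocalRing R]
  [IsSepClosed (IsLocalRing.ResidueField R)] [Field K] [Algebra R K]
  [IsFractionRing R K] [Field Ω] [IsSepClosed Ω] [Algebra K Ω] [Algebra R Ω] [IsScalarTower R K Ω]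
  (m : ℕ) (hm : 0 < m) (b c : R) (hΔ : b ^ 2 - 4 * c ≠ 0) {N : ℕ} (hN : IsUnit (N : R))

include hN in
/-- Trivial action on the cohomology of the standard quadric. -/
theorem hstd (σ : Ω ≃ₐ[K] Ω) (q : ℕ) (z : BH (VanCyc.fib R (stdStr R m) Ω) (ZMod N) q) :
    bh (ZMod N) (VanCyc.galGeom (stdStr R m) σ) q z = z := by
  have i : PreservesFiniteLimits (EtCoh.pull (VanCyc.galGeom (stdStr R m) σ)) := S0101.result _
  have hN' : IsUnit (N : Γ(Spec (CommRingCat.of R), ⊤)) := by
    have h := hN.map (Scheme.ΓSpecIso (CommRingCat.of R)).inv.hom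
    rwa [map_natCast] at h
  have h1 := Groth.Agent.Vancyc.H686.EvenVan.galH_std (R := R) m hN' σ
    (AddCommGrpCat.of (ULift.{u + 1} (ZMod N))) (fun x => by
      apply ULift.down_injective
      change N • x.down = 0
      simp) q
  have h2 := bh_galGeom_eq_smul (stdStr R m) σ (ZMod N) q i 1 (by
    rw [one_smul]
    exact h1) z
  rw [h2, one_smul]

include hm hΔ hN in
/-- The action is by signs. -/
theorem exists_sign (σ : Ω ≃ₐ[K] Ω) : ∃ e : ℤ, (e = 1 ∨ e = -1) ∧
    Groth.Agent.Vancyc.H681.ScalC.Scal e (modelEven R m b c) σ N (2 * m) := by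
  have hinj : Function.Injective (algebraMap R Ω) := by
    rw [IsScalarTower.algebraMap_eq R K Ω]
    exact (algebraMap K Ω).injective.comp (IsFractionRing.injective R K)
  have hNΩ : (N : Ω) ≠ 0 := by
    have := hN.map (algebraMap R Ω)
    rw [map_natCast] at this
    exact this.ne_zero
  have hΔΩ : (algebraMap R Ω b) ^ 2 - 4 * algebraMap R Ω c ≠ 0 := by
    have h1 : algebraMap R Ω (b ^ 2 - 4 * c) ≠ 0 := fun h => hΔ (hinj (h.trans (map_zero _).symm))
    rw [map_sub, map_pow, map_mul, map_ofNat] at h1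
    exact h1
  obtain ⟨α, β, h1, h2, h3⟩ := Groth.Agent.Vancyc.H459.SphereModel.exists_roots _ _ hΔΩ
  have hσ : ∀ r : R, σ (algebraMap R Ω r) = algebraMap R Ω r := fun r => by
    rw [IsScalarTower.algebraMap_apply R K Ω, AlgEquiv.commutes]
  have hstd' := hstd R K Ω m hN σ (2 * m)
  rcases fix_or_swap _ _ α β σ (hσ b) (hσ c) h1 h2 with ⟨h4, h5⟩ | ⟨h4, h5⟩
  · exact ⟨1, Or.inl rfl, fun z =>
      bh_model_fix R K Ω m b c α β h1 h2 h3 (ZMod N) (2 * m) σ hstd' h4 h5 z⟩
  · refine ⟨-1, Or.inr rfl, fun z =>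
      bh_model_swap R K Ω m b c α β h1 h2 h3 (ZMod N) (2 * m) σ hstd' ?_ h4 h5 z⟩
    intro y
    have hq : 2 * m = (2 * m - 1) + 1 := by omega
    have h6 : ∀ k, k = (2 * m - 1) + 1 → ∀ y : BH (VanCyc.fib R (stdStr R m) Ω) (ZMod N) k,
        bh (ZMod N) (fibTau R m Ω) k y = -y := by
      rintro k rfl y
      have h7 := Groth.Agent.Vancyc.H685.EvenHC.HC_fibTau R Ω m (IsUnit.mk0 _ hNΩ) (2 * m - 1)
        (subsingleton_aff hNΩ m _ (by omega)) y
      exact h7.trans (neg_one_zsmul y)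
    exact h6 _ hq y

end Groth.Agent.Vancyc.H694.GalSign
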