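import Groth.Agent.Vancyc.H694.StdT
import Mathlib.AlgebraicGeometry.Sites.EtalePoint

/-!
# Geometric points and common étale neighbourhoods
-/

set_option autoImplicit false
universe u

open CategoryTheory CategoryTheory.Limits AlgebraicGeometry IsLocalRing VanCyc

namespace Groth.Agent.Vancyc.H694.GeomPt

open Groth.Agent.Vancyc.H694.StdT

variable (R : Type u) [CommRing R] [IsLocalRing R]
  {X Y : Scheme.{u}} (f : X ⟶ Spec (CommRingCat.of R)) (g : Y ⟶ Spec (CommRingCat.of R))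

/-- A geometric point of the special fibre lifts to a common étale neighbourhood and gives a
geometric point of the special fibre of the étale neighbour. -/
theorem exists_geomPt {U : Scheme.{u}} (p : U ⟶ X) (q : U ⟶ Y) [Etale p] (w : p ≫ f = q ≫ g)
    (x : ↥(spFib R f)) (z : U) (hz : p z = (icl R f).base x) {Ω' : Type u} [Field Ω']
    [IsSepClosed Ω'] (ξ : Spec (CommRingCat.of Ω') ⟶ spFib R f)
    (hξ : ξ.base (closedPoint Ω') = x) :
    ∃ ζ : Spec (CommRingCat.of Ω') ⟶ U, ζ ≫ p = ξ ≫ icl R f ∧ ζ.base (closedPoint Ω') = z ∧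
      ∃ η : Spec (CommRingCat.of Ω') ⟶ spFib R g, η ≫ icl R g = ζ ≫ q ∧
        η ≫ spStr R g = ξ ≫ spStr R f ∧ (icl R g).base (η.base (closedPoint Ω')) = q z := by
  let c : Spec (CommRingCat.of Ω') := closedPoint Ω'
  have hd : (default : Spec (CommRingCat.of Ω')) = c := Subsingleton.elim _ _
  obtain ⟨ζ, h1, h2⟩ := Scheme.exists_fac_of_etale_of_isSepClosed p (ξ ≫ icl R f) z (by
    rw [hz, Scheme.Hom.comp_apply, hd]
    exact congrArg _ hξ.symm)
  rw [hd] at h2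
  have h3 : (ζ ≫ q) ≫ g = (ξ ≫ spStr R f) ≫ toSk R := by
    rw [Category.assoc, ← w, ← Category.assoc, h1, Category.assoc, Category.assoc,
      pullback.condition]
  refine ⟨ζ, h1, h2, pullback.lift (ζ ≫ q) (ξ ≫ spStr R f) h3,
    pullback.lift_fst _ _ _, pullback.lift_snd _ _ _, ?_⟩
  have h4 : (pullback.lift (ζ ≫ q) (ξ ≫ spStr R f) h3 ≫ icl R g) c = q z := by
    rw [pullback.lift_fst, Scheme.Hom.comp_apply, h2]
  rw [← h4, Scheme.Hom.comp_apply]

/-- The form for `HasCommonEt`. -/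
theorem exists_of_hasCommonEt (x : ↥(spFib R f)) (y : Y) (h : HasCommonEt f g ((icl R f).base x) y)
    {Ω' : Type u} [Field Ω'] [IsSepClosed Ω'] (ξ : Spec (CommRingCat.of Ω') ⟶ spFib R f)
    (hξ : ξ.base (closedPoint Ω') = x) :
    ∃ (U : Scheme.{u}) (p : U ⟶ X) (q : U ⟶ Y) (_ : Etale p) (_ : Etale q)
      (_ : p ≫ f = q ≫ g) (ζ : Spec (CommRingCat.of Ω') ⟶ U)
      (η : Spec (CommRingCat.of Ω') ⟶ spFib R g),
      ζ ≫ p = ξ ≫ icl R f ∧ ζ ≫ q = η ≫ icl R g ∧ η ≫ spStr R g = ξ ≫ spStr R f ∧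
        (icl R g).base (η.base (closedPoint Ω')) = y := by
  obtain ⟨U, p, q, z, hp, hq, w, hpz, hqz⟩ := h
  obtain ⟨ζ, h1, -, η, h3, h4, h5⟩ := exists_geomPt R f g p q w x z hpz ξ hξ
  exact ⟨U, p, q, hp, hq, w, ζ, η, h1, h3.symm, h4, h5.trans hqz⟩

end Groth.Agent.Vancyc.H694.GeomPt
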