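import Groth.Agent.Vancyc.H694.EvenLoc
import Groth.Agent.Vancyc.H694.GalSign
import Groth.Agent.Vancyc.H694.GeomPt
import Groth.Agent.Vancyc.H681.ScalLoc
import Groth.Agent.Vancyc.H681.ScalPsi
import Groth.Agent.Vancyc.H727.PtModel

/-!
# Inertia acts by signs on the middle nearby cycles at an even-dimensional quadratic point
-/

set_option autoImplicit false
universe u
open CategoryTheory CategoryTheory.Limits AlgebraicGeometry IsLocalRing VanCyc

namespace Groth.Agent.Vancyc.H694.SignEven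

open Groth.Agent.EtpbcB.StrictLoc Groth.Agent.Vancyc.H694.StdT Groth.Agent.Vancyc.H681
  Groth.Agent.Vancyc.H680.Model Groth.Agent.Vancyc.H680.HypPoint Groth.Agent.Vancyc.H680.ModelAlg

/-- Equality of geometric points. -/
theorem scal_congr {R K Ω : Type u} [CommRing R] [Field K] [Algebra R K] [Field Ω] [Algebra K Ω]
    [Algebra R Ω] [IsScalarTower R K Ω] {X : Scheme.{u}} (f : X ⟶ Spec (CommRingCat.of R))
    {Ω' : Type u} [Field Ω'] [IsSepClosed Ω'] {a a' : Spec (CommRingCat.of Ω') ⟶ X} (h : a = a')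
    (e : ℤ) (σ : Ω ≃ₐ[K] Ω) (N n : ℕ) (hs : ScalC.Scal e (toBase a ≫ f) σ N n) :
    ScalC.Scal e (toBase a' ≫ f) σ N n := by
  subst h
  exact hs

/-- The sign statement at every point with a common étale neighbourhood with the even model. -/
theorem sign_of_common (R K Ω : Type u) [CommRing R] [IsDomain R] [IsDiscreteValuationRing R]
    (hR : EtCoh.IsStrictlyHenselianLocalRing R) [Field K] [Algebra R K] [IsFractionRing R K]
    [Field Ω] [Algebra K Ω] [IsSepClosure K Ω] [Algebra R Ω] [IsScalarTower R K Ω]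
    {X : Scheme.{u}} (f : X ⟶ Spec (CommRingCat.of R)) (m : ℕ) (hm : 1 ≤ m) (b c : R)
    (hb : b ∈ maximalIdeal R) (hΔ : b ^ 2 - 4 * c ≠ 0)
    (h2c : (b = 0 ∧ c ∈ maximalIdeal R ∧ IsUnit (2 : R)) ∨ (2 : R) ∈ maximalIdeal R)
    (y : Spec (CommRingCat.of (degQuadRing R (stdT R m) b c)))
    (hy : sideIdeal R (stdT R m) b c ≤ PrimeSpectrum.asIdeal y) (x : ↥(spFib R f))
    (hce : HasCommonEt f (modelEven R m b c) ((icl R f).base x) y)
    {Ω' : Type u} [Field Ω'] [IsSepClosed Ω'] (ξ : Spec (CommRingCat.of Ω') ⟶ spFib R f)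
    (hξ : ξ.base (closedPoint Ω') = x) (N : ℕ) (hN : IsUnit (N : R)) (σ : Ω ≃ₐ[K] Ω) :
    ∃ ε : ℤ, (ε = 1 ∨ ε = -1) ∧
      (EtCoh.stalk ξ).map (psiGal f σ (2 * m) (EtCoh.const X (ZMod N))) = ε • 𝟙 _ := by
  have hH : HenselianLocalRing R := hR.1
  have hsc : IsSepClosed (ResidueField R) := hR.2
  have hΩ : IsSepClosed Ω := IsSepClosure.sep_closed K
  have hsep : Algebra.IsSeparable K Ω := IsSepClosure.separable
  obtain ⟨hΔm, hyx⟩ := H727.PtModel.eq_even m b c hb hΔ h2c y hy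
  obtain ⟨e, he, hs⟩ := GalSign.exists_sign R K Ω m hm b c hΔ hN σ
  have h1 : ScalC.Scal e (toBase (ptEven R m b c) ≫ modelEven R m b c) σ N (2 * m) :=
    ScalC.of_surjective e (modelEven R m b c) (toBase (ptEven R m b c)) σ N (2 * m) hs
      (EvenLoc.bijective_HC R m b c hN Ω hΔ hΔm (2 * m)).2
  obtain ⟨U, p, r, hp, hr, w, ζ, η, e1, e2, -, e4⟩ :=
    GeomPt.exists_of_hasCommonEt R f (modelEven R m b c) x y hce ξ hξ
  have e5 : (ζ ≫ r) default = y := by
    rw [e2, Scheme.Hom.comp_apply]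
    have hd : (default : Spec (CommRingCat.of Ω')) = closedPoint Ω' :=
      Subsingleton.elim (α := PrimeSpectrum Ω') _ _
    rw [hd]
    exact e4
  have e6 : (ptEven R m b c) default = y := hyx.symm
  have h2 : ScalC.Scal e (toBase (ζ ≫ r) ≫ modelEven R m b c) σ N (2 * m) :=
    ScalLoc.of_strictLoc (C := Osh (ptEven R m b c)) (C' := Osh (ζ ≫ r)) e σ N (2 * m)
      (modelEven R m b c) (EtpbcB.OshHens.isStrictLoc_toBase (ptEven R m b c))
      (EtpbcB.OshHens.isStrictLoc_toBase (ζ ≫ r))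
      ((ScalLoc.toBase_closedPoint (ptEven R m b c)).trans (e6.trans (e5.symm.trans
        (ScalLoc.toBase_closedPoint (ζ ≫ r)).symm))) h1
  have h3 := ScalLoc.of_roof e σ N (2 * m) f (modelEven R m b c) p r w ζ h2
  exact ⟨e, he, ScalPsi.stalk_psiGal_eq f ξ N (2 * m) e σ (scal_congr f e1 e σ N (2 * m) h3)⟩

end Groth.Agent.Vancyc.H694.SignEven
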