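import Groth.Agent.Vancyc.H699.BcMapUbc
import Groth.Agent.Sga4h.GSq

/-!
# Base change squares for sheaves killed by an invertible integer

`bc_single`: for a cartesian square with `f` quasi-compact quasi-separated and `g` satisfying `BCMor S`
(smooth morphisms, strict localizations, …) and `F` killed by `n > 0` invertible on `S`, base change holds for
`F` (in the sense of `Groth.Agent.Sga4h.GSq.BC`).
-/

set_option autoImplicit false
universe u

open CategoryTheory CategoryTheory.Limits Opposite AlgebraicGeometry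

attribute [local instance] HasDerivedCategory.standard

namespace Groth.Agent.Vancyc.H694.BCTool

open Groth.Agent.EtpbcB Groth.Agent.EtpbcB.NKill Groth.Agent.EtpbcB.NKillEt Groth.Agent.EtpbcB.BCU
  Groth.Agent.EtpbcA Groth.Agent.Etrest.RDer2 Groth.Agent.Etrest.RDer4 Groth.Agent.Etrest.DEtPush
  Groth.Agent.Vancyc.H699.BcMapUbc Groth.Agent.Sga4h

attribute [local instance] Groth.Agent.S0101.result

variable {S X Y X' Y' : Scheme.{u}}

/-- Base change for bounded below complexes of sheaves killed by `n`. -/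
theorem isIso_bcEt_of_killed (f : X ⟶ Y) (g : Y' ⟶ Y) (f' : X' ⟶ Y') (g' : X' ⟶ X)
    (sq : IsPullback g' f' f g) [QuasiCompact f] [QuasiSeparated f] (hg : BCMor S g)
    {n : ℕ} (hn : 0 < n) (hS : IsUnit (n : Γ(S, ⊤))) (K : DCoh.DEt X)
    (L : CochainComplex (EtCoh.Ab X) ℤ) (a : ℤ) [L.IsStrictlyGE a] (hL : ∀ m, Killed n (L.X m))
    (e : Nonempty (DerivedCategory.Q.obj L ≅ K)) : IsIso ((bcEt sq.w).app K) := by
  obtain ⟨e⟩ := e
  obtain ⟨I, i, hi, hI, hK⟩ := KilledCat.exists_resolution (n := n) L a hL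
  have hi' : IsIso (DerivedCategory.Q.map i) := inferInstance
  have hinv : ∀ m, EtPBC.IsTorsionInvertibleOn S (I.X m) := fun m =>
    isTorsionInvertibleOn_of_killedBy hS ((killedBy_iff n _).2 (hK m).1)
  refine isIso_bcD_of_iso _ ((asIso (DerivedCategory.Q.map i)).symm ≪≫ e)
    (isIso_bcD_Q_of_isAcyc _ _ a (fun m q => ?_) (fun m q => ?_) (fun m => ?_))
  · exact isZero_Rpush_of_nInj f hn ((killedBy_iff n _).2 (hK m).1) (hK m).2 (q + 1) (Nat.succ_pos q)
  · refine hg.acyc sq (hinv m) (fun q hq => ?_) (q + 1) (Nat.succ_pos q)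
    exact isZero_Rpush_of_nInj f hn ((killedBy_iff n _).2 (hK m).1) (hK m).2 q hq
  · exact (hg f f' g' sq (I.X m) (hinv m)).2

/-- Base change for a sheaf killed by `n`. -/
theorem bc_single {f : X ⟶ Y} {g : Y' ⟶ Y} {f' : X' ⟶ Y'} {g' : X' ⟶ X}
    (sq : IsPullback g' f' f g) [QuasiCompact f] [QuasiSeparated f] (hg : BCMor S g)
    {n : ℕ} (hn : 0 < n) (hS : IsUnit (n : Γ(S, ⊤))) (F : EtCoh.Ab X) (hF : EtCoh.KilledBy n F) :
    GSq.BC sq.w (EtBC.single X F) := by
  rw [GSq.BC_iff]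
  refine isIso_bcEt_of_killed f g f' g' sq hg hn hS _
    ((HomologicalComplex.single (EtCoh.Ab X) (.up ℤ) 0).obj F) 0 (fun m => ?_) ⟨?_⟩
  · by_cases hm : m = 0
    · subst hm
      exact killed_of_mono (HomologicalComplex.singleObjXSelf (.up ℤ) 0 F).hom ((killedBy_iff n F).1 hF)
    · exact (HomologicalComplex.isZero_single_obj_X (.up ℤ) 0 F m hm).eq_of_src _ _
  · exact ((DerivedCategory.singleFunctorIsoCompQ (EtCoh.Ab X) 0).symm.app F)

end Groth.Agent.Vancyc.H694.BCTool
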