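import Groth.Agent.Etbc.H181.HyperEt
import Groth.Agent.Sga4h.GSq

/-!
# Morphisms inducing isomorphisms on the cohomology of a complex

`BijD u K`: the pull-back `H^q(X, K) ⟶ H^q(Y, u⁻¹ K)` is bijective for all `q`, for `K` in the derived
category of abelian étale sheaves.
-/

set_option autoImplicit false
universe u

open CategoryTheory CategoryTheory.Limits Opposite AlgebraicGeometry Pretriangulated

attribute [local instance] HasDerivedCategory.standard

namespace Groth.Agent.Vancyc.H694.BijDer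

open Groth.Agent.Etbc.H181.HyperDev Groth.Agent.Etbc.H181.HyperExt Groth.Agent.Etbc.H181.HyperPush
  Groth.Agent.Etbc.H181.HyperEt Groth.Agent.Etrest.DEtPush Groth.Agent.Etrest.DEtMate
  Groth.Agent.Etrest.RDer5 Groth.Agent.Sga4h

section abs

variable {C D C₂ D₂ : Type*} [Category* C] [Category* D] [Category* C₂] [Category* D₂]
  {L : D ⥤ C} {G : C ⥤ D} (adj : L ⊣ G) {L₂ : D₂ ⥤ C₂} {G₂ : C₂ ⥤ D₂} (adj₂ : L₂ ⊣ G₂)
  {E : C ⥤ C₂} {E' : D ⥤ D₂} (c : E' ⋙ L₂ ≅ L ⋙ E) {M : D} {X : C}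

theorem mapInj_left [Mono ((mate adj adj₂ c.hom).app X)] (h : MapInj E' M (G.obj X)) :
    MapInj E (L.obj M) X := by
  intro x y hxy
  have h1 := mate_transpose' adj adj₂ c.hom x
  have h2 := mate_transpose' adj adj₂ c.hom y
  rw [hxy, ← h2] at h1
  have h3 := (cancel_mono _).1 h1
  exact (adj.homEquiv _ _).injective (h h3)

theorem mapSurj_left [IsIso ((mate adj adj₂ c.hom).app X)] (h : MapSurj E' M (G.obj X)) :
    MapSurj E (L.obj M) X := by
  intro z
  obtain ⟨x', hx'⟩ := h (adj₂.homEquiv _ _ (c.hom.app M ≫ z) ≫ inv ((mate adj adj₂ c.hom).app X))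
  obtain ⟨x, rfl⟩ := (adj.homEquiv _ _).surjective x'
  refine ⟨x, ?_⟩
  have h1 := mate_transpose' adj adj₂ c.hom x
  rw [hx', Category.assoc, IsIso.inv_hom_id, Category.comp_id] at h1
  have h2 := (adj₂.homEquiv _ _).injective h1
  exact ((cancel_epi _).1 h2).symm

end abs

variable {X Y Xb Yb : Scheme.{u}}

/-- The pull-back on the cohomology of `K` is bijective in all degrees. -/
def BijD (u : Y ⟶ X) (K : DCoh.DEt X) : Prop := ∀ m : ℤ, CompD u m K

variable {u : Y ⟶ X}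

theorem bijD_iff (K : DCoh.DEt X) : BijD u K ↔ ∀ q : ℤ,
    MapInj (pullD u) (EtBC.single X (EtCoh.const X ℤ)) (K⟦q⟧) ∧
      MapSurj (pullD u) (EtBC.single X (EtCoh.const X ℤ)) (K⟦q⟧) :=
  ⟨fun h q => ⟨(h q).inj q (by lia), (h q).surj q le_rfl⟩,
    fun h m => ⟨fun q _ => (h q).1, fun q _ => (h q).2⟩⟩

theorem BijD.of_iso {K L : DCoh.DEt X} (h : BijD u K) (e : K ≅ L) : BijD u L :=
  fun m => (h m).of_iso e

theorem BijD.shift {K : DCoh.DEt X} (h : BijD u K) (a : ℤ) : BijD u (K⟦a⟧) :=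
  fun m => (h (m + a)).shift a m rfl

theorem BijD.of_shift {K : DCoh.DEt X} (a : ℤ) (h : BijD u (K⟦a⟧)) : BijD u K :=
  (h.shift (-a)).of_iso ((shiftFunctorCompIsoId _ a (-a) (by lia)).app K)

theorem BijD.two {T : Triangle (DCoh.DEt X)} (hT : T ∈ distTriang _) (h1 : BijD u T.obj₁)
    (h3 : BijD u T.obj₃) : BijD u T.obj₂ :=
  fun m => CompD.of_triangle T hT (h1 m) (h3 m)

theorem BijD.three {T : Triangle (DCoh.DEt X)} (hT : T ∈ distTriang _) (h1 : BijD u T.obj₁)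
    (h2 : BijD u T.obj₂) : BijD u T.obj₃ :=
  BijD.two (rot_of_distTriang _ hT) h2 (h1.shift 1)

theorem BijD.one {T : Triangle (DCoh.DEt X)} (hT : T ∈ distTriang _) (h2 : BijD u T.obj₂)
    (h3 : BijD u T.obj₃) : BijD u T.obj₁ :=
  BijD.two (inv_rot_of_distTriang _ hT) (h3.shift (-1)) h2

theorem bijD_of_isZero {K : DCoh.DEt X} (hK : IsZero K) : BijD u K := by
  rw [bijD_iff]
  intro q
  have h1 : IsZero (K⟦q⟧) := (shiftFunctor _ q).map_isZero hK
  have h2 : IsZero ((pullD u).obj (K⟦q⟧)) := (pullD u).map_isZero h1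
  exact ⟨fun x y _ => h1.eq_of_tgt _ _, fun y => ⟨0, h2.eq_of_tgt _ _⟩⟩

/-- Truncation dévissage. -/
theorem bijD_of_homology (K : DCoh.DEt X) (a : ℤ) [K.IsGE a]
    (h : ∀ i : ℤ, a ≤ i → BijD u (EtBC.single X (DCoh.HDEt K i))) : BijD u K :=
  fun m => compD_of_homology u m K a fun i hi _ => h i hi (m - i)

theorem bijD_single_iff [PreservesFiniteLimits (EtCoh.pull u)] (F : EtCoh.Ab X) :
    BijD u (EtBC.single X F) ↔ ∀ n : ℕ, Function.Bijective (EtCore.Hpull u F n) := by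
  constructor
  · intro h n
    have h1 := (compD_single_iff u F n).1 (h n)
    exact ⟨h1.1 n (by lia), h1.2 n le_rfl⟩
  · intro h m
    exact (compD_single_iff u F m).2 ⟨fun n _ => (h n).1, fun n _ => (h n).2⟩

/-- Direct images: descent to the source along a base change isomorphism. -/
theorem BijD.of_push {h : Y ⟶ X} {p : Xb ⟶ X} {hb : Yb ⟶ Xb} {pY : Yb ⟶ Y} (w : hb ≫ p = pY ≫ h)
    (K : DCoh.DEt Xb) (hbc : IsIso ((bcEt w).app K)) (hK : BijD h ((pushD p).obj K)) : BijD hb K := by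
  let M : DCoh.DEt X := EtBC.single X (EtCoh.const X ℤ)
  let eM : EtBC.single Xb (EtCoh.const Xb ℤ) ≅ (pullD p).obj M :=
    (DerivedCategory.singleFunctor (EtCoh.Ab Xb) 0).mapIso (EtCore.pullConst p ℤ).symm ≪≫
      ((EtCoh.pull p).mapDerivedCategorySingleFunctor 0).symm.app (EtCoh.const X ℤ)
  have e : ∀ q : ℤ, ((pullD p).obj M)⟦(-q)⟧ ≅ (pullD p).obj (M⟦(-q)⟧) := fun q =>
    (((pullD p).commShiftIso (-q)).app M).symm
  rw [bcEt_eq_mate] at hbc
  rw [bijD_iff] at hK ⊢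
  intro q
  obtain ⟨h1, h2⟩ := hK q
  rw [mapInj_shift_iff] at h1
  rw [mapSurj_shift_iff] at h2
  rw [mapInj_shift_iff, mapSurj_shift_iff]
  constructor
  · refine MapInj.of_iso_left (P := (pullD p).obj (M⟦(-q)⟧)) ((e q).symm ≪≫
      (shiftFunctor _ (-q)).mapIso eM.symm) ?_
    exact mapInj_left (dPullPush p) (dPullPush pY) (cmpD w) h1
  · refine MapSurj.of_iso_left (P := (pullD p).obj (M⟦(-q)⟧)) ((e q).symm ≪≫
      (shiftFunctor _ (-q)).mapIso eM.symm) ?_
    exact mapSurj_left (dPullPush p) (dPullPush pY) (cmpD w) h2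

/-- Direct images: ascent. -/
theorem BijD.push {h : Y ⟶ X} {p : Xb ⟶ X} {hb : Yb ⟶ Xb} {pY : Yb ⟶ Y} (w : hb ≫ p = pY ≫ h)
    (K : DCoh.DEt Xb) (hbc : IsIso ((bcEt w).app K)) (hK : BijD hb K) : BijD h ((pushD p).obj K) := by
  intro m
  exact compD_pushD w K m m (hK m) (fun i _ => inferInstance) inferInstance le_rfl

end Groth.Agent.Vancyc.H694.BijDer
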