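import Groth.Agent.Hensel.Lazard
import Groth.Agent.S1996
import Groth.Agent.Flat2E.SmoothInf
import Mathlib.RingTheory.Smooth.Fiber
import Mathlib.RingTheory.Etale.Locus
import Mathlib.RingTheory.RingHom.Etale
import Mathlib.RingTheory.Unramified.LocalRing

/-!
# From an isomorphism of henselizations to a common étale neighbourhood

* `isHenselization_of_hull` : a hull of `B` with respect to `κ(P)` is a henselization of `B_P`;
* `exists_common_etale` : `B`, `C` finitely presented over `A`, and an `A`-isomorphism of
  henselizations of `B_P` and `C_Q` give an algebra `E`, étale over `B` and over `C`, with a prime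
  over `P` and `Q` (and with trivial residue field extension).
-/

set_option autoImplicit false
universe u

open IsLocalRing Groth.Agent.Hensel Groth.Agent.Hensel.Hull Groth.Agent.Hensel.HullLocal
  Groth.Agent.Hensel.Exist Groth.Agent.Hensel.Lazard

namespace Groth.Agent.Vancyc.H694.CommonEt

section Hull

variable {B : Type u} [CommRing B] (P : Ideal B) [P.IsPrime]

/-- The data of a hull of `B` with respect to the residue field at `P`, as a henselization of the
local ring at `P`. -/
theorem exists_hull_localization : ∃ (S : Type u) (_ : CommRing S) (_ : IsLocalRing S)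
    (_ : Algebra B S) (_ : Algebra (Localization.AtPrime P) S)
    (_ : IsScalarTower B (Localization.AtPrime P) S)
    (_ : IsLocalHom (algebraMap (Localization.AtPrime P) S)),
    Hensel.IsHenselization (Localization.AtPrime P) S ∧ Laz B S ∧
      Function.Surjective ((residue S).comp (algebraMap (Localization.AtPrime P) S)) := by
  let K := ResidueField (Localization.AtPrime P)
  let _ : Algebra B K := ((residue (Localization.AtPrime P)).comp
    (algebraMap B (Localization.AtPrime P))).toAlgebra
  obtain ⟨S, _, _, π, h⟩ := exists_isHull B K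
  have hS := h.isLocalRing
  have hu : ∀ y : P.primeCompl, IsUnit (algebraMap B S y) := by
    intro y
    apply h.isUnit_of_ne_zero
    rw [π.commutes]
    change residue _ (algebraMap B (Localization.AtPrime P) y) ≠ 0
    rw [residue_ne_zero_iff_isUnit]
    exact IsLocalization.map_units _ y
  let j : Localization.AtPrime P →+* S := IsLocalization.lift (M := P.primeCompl) hu
  let _ : Algebra (Localization.AtPrime P) S := j.toAlgebra
  have hj : ∀ b : B, algebraMap (Localization.AtPrime P) S (algebraMap B _ b) = algebraMap B S b :=
    fun b => IsLocalization.lift_eq hu b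
  have hT : IsScalarTower B (Localization.AtPrime P) S :=
    IsScalarTower.of_algebraMap_eq fun b => (hj b).symm
  have hπ : ∀ r, π (algebraMap (Localization.AtPrime P) S r) = residue _ r := by
    have : (π.toRingHom.comp (algebraMap (Localization.AtPrime P) S)) =
        residue (Localization.AtPrime P) := by
      apply IsLocalization.ringHom_ext P.primeCompl
      ext b
      change π (algebraMap (Localization.AtPrime P) S (algebraMap B _ b)) = _
      rw [hj, π.commutes]
      rfl
    intro r
    exact congr($this r)
  have hl : IsLocalHom (algebraMap (Localization.AtPrime P) S) := by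
    constructor
    intro r hr
    have := hr.map π
    rw [hπ] at this
    rwa [← residue_ne_zero_iff_isUnit, ← isUnit_iff_ne_zero]
  have hs : Function.Surjective
      ((residue S).comp (algebraMap (Localization.AtPrime P) S)) := by
    intro x
    obtain ⟨s, rfl⟩ := residue_surjective x
    obtain ⟨r, hr⟩ := residue_surjective (π s)
    refine ⟨r, ?_⟩
    rw [RingHom.comp_apply, ← sub_eq_zero, ← map_sub, residue_eq_zero_iff, h.mem_maximalIdeal_iff,
      map_sub, hπ, hr, sub_self]
  have hm : (maximalIdeal (Localization.AtPrime P)).map (algebraMap _ S) = maximalIdeal S := by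
    refine le_antisymm (((local_hom_TFAE (algebraMap _ S)).out 0 2 rfl rfl).mp hl) fun s hs' => ?_
    obtain ⟨E, _, _, _, χ, hχ⟩ := h.exists_etale_finset {s}
    obtain ⟨e, rfl⟩ := hχ (by simp : s ∈ ((({s} : Finset S)) : Set S))
    let q : Ideal E := (maximalIdeal S).comap χ.toRingHom
    have hq : q.IsPrime := Ideal.IsPrime.comap _
    have hqP : q.LiesOver P := by
      constructor
      ext b
      rw [Ideal.mem_comap, Ideal.mem_comap]
      change _ ↔ χ (algebraMap B E b) ∈ _
      rw [χ.commutes, h.mem_maximalIdeal_iff, π.commutes]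
      change _ ↔ residue _ (algebraMap B (Localization.AtPrime P) b) = 0
      rw [residue_eq_zero_iff, IsLocalization.AtPrime.to_map_mem_maximal_iff _ P]
    let _ := Localization.AtPrime.algebraOfLiesOver P q
    have h3 := ((Algebra.isUnramifiedAt_iff_map_eq B P q).mp inferInstance).2
    -- the map from the localization
    have hu' : ∀ y : q.primeCompl, IsUnit (χ.toRingHom y) := by
      intro y
      by_contra hc
      exact y.2 ((mem_maximalIdeal _).mpr hc)
    let k : Localization.AtPrime q →+* S := IsLocalization.lift (M := q.primeCompl) hu'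
    have hk : ∀ x : E, k (algebraMap E _ x) = χ x := fun x => IsLocalization.lift_eq hu' x
    have he : algebraMap E (Localization.AtPrime q) e ∈ maximalIdeal (Localization.AtPrime q) := by
      rw [IsLocalization.AtPrime.to_map_mem_maximal_iff _ q]
      exact hs'
    rw [← h3] at he
    have h4 := Ideal.mem_map_of_mem k he
    rw [Ideal.map_map, hk] at h4
    have h5 : k.comp (algebraMap B (Localization.AtPrime q)) =
        (algebraMap (Localization.AtPrime P) S).comp (algebraMap B (Localization.AtPrime P)) := by
      ext b
      rw [RingHom.comp_apply, RingHom.comp_apply, hj,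
        IsScalarTower.algebraMap_apply B E (Localization.AtPrime q), hk, χ.commutes]
    rw [h5, ← Ideal.map_map, Localization.AtPrime.map_eq_maximalIdeal] at h4
    exact h4
  refine ⟨S, inferInstance, hS, inferInstance, inferInstance, hT, hl, ?_, h.lazard, hs⟩
  exact
    { henselian := h.henselianLocalRing
      universal := by
        intro T _ _ f hf
        let _ : Algebra B T := (f.comp (algebraMap B (Localization.AtPrime P))).toAlgebra
        let τ : K →+* ResidueField T := ResidueField.map f
        obtain ⟨g, hg, hgu⟩ := h.existsUnique_algHom (T := T) τ (fun r =>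
          ResidueField.map_residue f (algebraMap B (Localization.AtPrime P) r))
        refine ⟨g.toRingHom, ?_, ?_⟩
        · apply IsLocalization.ringHom_ext P.primeCompl
          ext b
          change g (algebraMap (Localization.AtPrime P) S (algebraMap B _ b)) = _
          rw [hj]
          exact g.commutes b
        · intro g' hg'
          have hg'' : ∀ r, g' (algebraMap (Localization.AtPrime P) S r) = f r :=
            fun r => congr($hg' r)
          have hg₁ : ∀ b : B, g' (algebraMap B S b) = f (algebraMap B (Localization.AtPrime P) b) := by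
            intro b
            rw [← hg'', hj]
          let g₁ : S →ₐ[B] T := { toRingHom := g', commutes' := hg₁ }
          have : g₁ = g := by
            refine hgu _ fun s => ?_
            obtain ⟨r, hr⟩ := residue_surjective (π s)
            have hr' : π (algebraMap (Localization.AtPrime P) S r) = π s := (hπ r).trans hr
            have h1 : s - algebraMap (Localization.AtPrime P) S r ∈ maximalIdeal S := by
              rw [h.mem_maximalIdeal_iff, map_sub, hr', sub_self]
            rw [← hm] at h1
            have h2 := Ideal.mem_map_of_mem g' h1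
            rw [Ideal.map_map, hg'] at h2
            have h3 : Ideal.map f (maximalIdeal (Localization.AtPrime P)) ≤ maximalIdeal T :=
              ((local_hom_TFAE f).out 0 2 rfl rfl).mp hf
            have h4 := h3 h2
            rw [map_sub, hg'', ← residue_eq_zero_iff, map_sub, sub_eq_zero] at h4
            change residue T (g' s) = _
            rw [h4, ← hr]
            exact (ResidueField.map_residue f r).symm
          rw [← this] }

end Hull

section Core

attribute [local instance] Algebra.FormallyEtale.of_formallyUnramified_of_field in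
/-- Flat and unramified at a prime implies étale there. -/
theorem isEtaleAt_of_flat_of_unramified {R T : Type u} [CommRing R] [CommRing T] [Algebra R T]
    [Algebra.FinitePresentation R T] (q : Ideal T) [q.IsPrime]
    [Module.Flat R (Localization.AtPrime q)] [Algebra.IsUnramifiedAt R q] :
    Algebra.IsEtaleAt R q := by
  let p := q.under R
  have h1 : Algebra.FormallyUnramified p.ResidueField
      (TensorProduct R p.ResidueField (Localization.AtPrime q)) := inferInstance
  have h2 : Algebra.EssFiniteType p.ResidueField
      (TensorProduct R p.ResidueField (Localization.AtPrime q)) := by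
    have : Algebra.EssFiniteType R (Localization.AtPrime q) := Algebra.EssFiniteType.comp R T _
    infer_instance
  have h3 : Algebra.FormallyEtale p.ResidueField
      (TensorProduct R p.ResidueField (Localization.AtPrime q)) := inferInstance
  have h4 : Algebra.IsSmoothAt R q :=
    Groth.Agent.Flat2E.SmoothInf.isSmoothAt_of_flat_of_formallySmooth p q
  have : (⟨q, ‹_›⟩ : PrimeSpectrum T) ∈ Algebra.etaleLocus R T := by
    rw [Algebra.etaleLocus_eq_unramfiedLocus_inter_smoothLocus]
    exact ⟨‹Algebra.IsUnramifiedAt R q›, h4⟩
  exact this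

/-- Étaleness at a prime, from a local ring `S` over `E` which is flat over `E` and over `C`. -/
theorem isEtaleAt_of_local {C E S : Type u} [CommRing C] [CommRing E] [CommRing S] [IsLocalRing S]
    [Algebra C E] [Algebra E S] [Algebra C S] [IsScalarTower C E S]
    [Algebra.FinitePresentation C E] [Module.Flat E S] [Module.Flat C S]
    (Q : Ideal C) [Q.IsPrime] (P' : Ideal E) [P'.IsPrime]
    (hP' : (maximalIdeal S).comap (algebraMap E S) = P')
    (hQ : P'.comap (algebraMap C E) = Q)
    (hm : Q.map (algebraMap C S) = maximalIdeal S)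
    (hres : ∀ s : S, ∃ c₁ c₂ : C, c₂ ∉ Q ∧
      algebraMap C S c₂ * s - algebraMap C S c₁ ∈ maximalIdeal S) :
    Algebra.IsEtaleAt C P' := by
  let D := Localization.AtPrime P'
  have hu : ∀ y : P'.primeCompl, IsUnit (algebraMap E S y) := by
    intro y
    by_contra hc
    exact y.2 (hP' ▸ (mem_maximalIdeal _).mpr hc)
  let j : D →+* S := IsLocalization.lift (M := P'.primeCompl) hu
  let _ : Algebra D S := j.toAlgebra
  have hj : ∀ b : E, algebraMap D S (algebraMap E _ b) = algebraMap E S b :=
    fun b => IsLocalization.lift_eq hu b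
  have hT : IsScalarTower E D S := IsScalarTower.of_algebraMap_eq fun b => (hj b).symm
  have hT' : IsScalarTower C D S := IsScalarTower.of_algebraMap_eq fun c => by
    rw [IsScalarTower.algebraMap_apply C E D, hj, IsScalarTower.algebraMap_apply C E S]
  have hl : IsLocalHom (algebraMap D S) := by
    constructor
    intro r hr
    obtain ⟨x, y, rfl⟩ := IsLocalization.exists_mk'_eq P'.primeCompl r
    rw [IsLocalization.AtPrime.isUnit_mk'_iff D P']
    intro hx
    have h1 : algebraMap D S (IsLocalization.mk' D x y) * algebraMap E S y = algebraMap E S x := by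
      rw [← hj, ← hj, ← map_mul, IsLocalization.mk'_spec]
    have h2 : IsUnit (algebraMap E S x) := by
      rw [← h1]
      exact hr.mul (hu y)
    rw [← hP'] at hx
    exact (mem_maximalIdeal _).mp hx h2
  have hfl : Module.Flat D S := (Module.flat_iff_of_isLocalization D P'.primeCompl S).mpr ‹_›
  have hff : Module.FaithfullyFlat D S := Module.FaithfullyFlat.of_flat_of_isLocalHom
  have hCD : Module.Flat C D := Groth.Agent.S1996.flat_of_faithfullyFlat_comp C D S
  have hlo : P'.LiesOver Q := ⟨hQ.symm⟩
  have hmD : maximalIdeal D ≤ (maximalIdeal S).comap (algebraMap D S) :=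
    ((local_hom_TFAE (algebraMap D S)).out 0 3 rfl rfl).mp hl
  have hun : Algebra.IsUnramifiedAt C P' := by
    let _ := Localization.AtPrime.algebraOfLiesOver Q P'
    rw [Algebra.isUnramifiedAt_iff_map_eq C Q P']
    constructor
    · refine ⟨fun x => ?_⟩
      obtain ⟨d, rfl⟩ := residue_surjective (R := D) x
      obtain ⟨c₁, c₂, hc₂, h⟩ := hres (algebraMap D S d)
      have h1 : algebraMap C D c₂ * d - algebraMap C D c₁ ∈ maximalIdeal D := by
        rw [mem_maximalIdeal, mem_nonunits_iff]
        intro hu'
        have := hu'.map (algebraMap D S)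
        rw [map_sub, map_mul, ← IsScalarTower.algebraMap_apply,
          ← IsScalarTower.algebraMap_apply] at this
        exact (mem_maximalIdeal _).mp h this
      have h2 : algebraMap C P'.ResidueField c₂ ≠ 0 := by
        rw [IsScalarTower.algebraMap_apply C E P'.ResidueField, Ne,
          Ideal.algebraMap_residueField_eq_zero, ← Ideal.mem_comap, hQ]
        exact hc₂
      have h3 : algebraMap C P'.ResidueField c₂ * residue D d = algebraMap C P'.ResidueField c₁ := by
        rw [← sub_eq_zero]
        have h4 : ∀ c : C, algebraMap C P'.ResidueField c = residue D (algebraMap C D c) :=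
          fun c => rfl
        rw [h4, h4, ← map_mul, ← map_sub, residue_eq_zero_iff]
        exact h1
      have h5 : residue D d = algebraMap Q.ResidueField P'.ResidueField
          (algebraMap C Q.ResidueField c₁ / algebraMap C Q.ResidueField c₂) := by
        rw [map_div₀, ← IsScalarTower.algebraMap_apply, ← IsScalarTower.algebraMap_apply, ← h3]
        field_simp
      rw [h5]
      exact isSeparable_algebraMap _
    · refine le_antisymm ?_ ?_
      · rw [Ideal.map_le_iff_le_comap]
        intro c hc
        rw [Ideal.mem_comap, IsScalarTower.algebraMap_apply C E D,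
          IsLocalization.AtPrime.to_map_mem_maximal_iff _ P', ← Ideal.mem_comap, hQ]
        exact hc
      · intro d hd
        have h1 : algebraMap D S d ∈ (Q.map (algebraMap C D)).map (algebraMap D S) := by
          rw [Ideal.map_map, ← IsScalarTower.algebraMap_eq, hm]
          exact hmD hd
        have h2 := Ideal.comap_map_eq_self_of_faithfullyFlat (B := S) (Q.map (algebraMap C D))
        rw [← h2]
        exact h1
  exact isEtaleAt_of_flat_of_unramified P'

lemma comap_maximalIdeal_eq {B S : Type u} [CommRing B] (P : Ideal B) [P.IsPrime] [CommRing S]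
    [IsLocalRing S] [Algebra B S] [Algebra (Localization.AtPrime P) S]
    [IsScalarTower B (Localization.AtPrime P) S] [IsLocalHom (algebraMap (Localization.AtPrime P) S)] :
    (maximalIdeal S).comap (algebraMap B S) = P := by
  rw [IsScalarTower.algebraMap_eq B (Localization.AtPrime P) S, ← Ideal.comap_comap,
    IsLocalRing.maximalIdeal_comap]
  exact Localization.AtPrime.under_maximalIdeal

/-- An `A`-isomorphism of henselizations gives a common étale neighbourhood. -/
theorem exists_common_etale {A B C : Type u} [CommRing A] [CommRing B] [CommRing C] [Algebra A B]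
    [Algebra A C] [Algebra.FinitePresentation A B] [Algebra.FinitePresentation A C]
    (P : Ideal B) [P.IsPrime] (Q : Ideal C) [Q.IsPrime]
    (H : ∀ (S : Type u) [CommRing S] [IsLocalRing S] [Algebra (Localization.AtPrime P) S]
      [IsLocalHom (algebraMap (Localization.AtPrime P) S)]
      [Hensel.IsHenselization (Localization.AtPrime P) S] [Algebra A S]
      [IsScalarTower A (Localization.AtPrime P) S]
      (T : Type u) [CommRing T] [IsLocalRing T] [Algebra (Localization.AtPrime Q) T]
      [IsLocalHom (algebraMap (Localization.AtPrime Q) T)]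
      [Hensel.IsHenselization (Localization.AtPrime Q) T] [Algebra A T]
      [IsScalarTower A (Localization.AtPrime Q) T], Nonempty (S ≃ₐ[A] T)) :
    ∃ (E : Type u) (_ : CommRing E) (_ : Algebra A E) (_ : Algebra B E) (_ : IsScalarTower A B E)
      (_ : Algebra.Etale B E) (P' : Ideal E) (_ : P'.IsPrime) (ψ : C →ₐ[A] E),
      P'.comap (algebraMap B E) = P ∧ ψ.toRingHom.Etale ∧ P'.comap ψ.toRingHom = Q ∧
      ∀ e : E, ∃ b₁ b₂ : B, b₂ ∉ P ∧ algebraMap B E b₂ * e - algebraMap B E b₁ ∈ P' := by
  obtain ⟨S, _, _, _, _, _, _, hS, hLS, hsS⟩ := exists_hull_localization P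
  obtain ⟨T, _, _, _, _, _, _, hT, hLT, hsT⟩ := exists_hull_localization Q
  let _ : Algebra A S := ((algebraMap B S).comp (algebraMap A B)).toAlgebra
  have hABS : IsScalarTower A B S := IsScalarTower.of_algebraMap_eq fun _ => rfl
  have hAPS : IsScalarTower A (Localization.AtPrime P) S :=
    IsScalarTower.of_algebraMap_eq fun a => by
      rw [IsScalarTower.algebraMap_apply A B (Localization.AtPrime P),
        ← IsScalarTower.algebraMap_apply B (Localization.AtPrime P) S]
      rfl
  let _ : Algebra A T := ((algebraMap C T).comp (algebraMap A C)).toAlgebra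
  have hACT : IsScalarTower A C T := IsScalarTower.of_algebraMap_eq fun _ => rfl
  have hAQT : IsScalarTower A (Localization.AtPrime Q) T :=
    IsScalarTower.of_algebraMap_eq fun a => by
      rw [IsScalarTower.algebraMap_apply A C (Localization.AtPrime Q),
        ← IsScalarTower.algebraMap_apply C (Localization.AtPrime Q) T]
      rfl
  obtain ⟨e⟩ := H S T
  -- `S` as a `C`-algebra
  let _ : Algebra C S := ((e.symm : T →+* S).comp (algebraMap C T)).toAlgebra
  have hCS : ∀ c : C, algebraMap C S c = e.symm (algebraMap C T c) := fun _ => rfl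
  have hACS : IsScalarTower A C S := IsScalarTower.of_algebraMap_eq fun a => by
    rw [hCS, ← IsScalarTower.algebraMap_apply]
    exact (e.symm.commutes a).symm
  let φ : TensorProduct A B C →ₐ[B] S := Algebra.TensorProduct.lift (Algebra.ofId B S)
    (IsScalarTower.toAlgHom A C S) (fun _ _ => Commute.all _ _)
  obtain ⟨E, _, _, _, ψ₀, χ, hχ⟩ := hLS (TensorProduct A B C) φ
  let _ : Algebra A E := ((algebraMap B E).comp (algebraMap A B)).toAlgebra
  have hABE : IsScalarTower A B E := IsScalarTower.of_algebraMap_eq fun _ => rfl
  let ψ : C →ₐ[A] E := (ψ₀.restrictScalars A).comp Algebra.TensorProduct.includeRight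
  have hψ : ∀ c : C, χ (ψ c) = algebraMap C S c := by
    intro c
    have := congr($hχ (Algebra.TensorProduct.includeRight c))
    change χ (ψ₀ (1 ⊗ₜ[A] c)) = _
    refine this.trans ?_
    change Algebra.TensorProduct.lift _ _ _ (1 ⊗ₜ[A] c) = _
    rw [Algebra.TensorProduct.lift_tmul, map_one, one_mul]
    rfl
  let _ : Algebra C E := ψ.toRingHom.toAlgebra
  have hCE : ∀ c : C, algebraMap C E c = ψ c := fun _ => rfl
  have hACE : IsScalarTower A C E := IsScalarTower.of_algebraMap_eq fun a => (ψ.commutes a).symm
  let _ : Algebra E S := χ.toRingHom.toAlgebra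
  have hES : ∀ x : E, algebraMap E S x = χ x := fun _ => rfl
  have hBES : IsScalarTower B E S := IsScalarTower.of_algebraMap_eq fun a => (χ.commutes a).symm
  have hCES : IsScalarTower C E S := IsScalarTower.of_algebraMap_eq fun c => (hψ c).symm
  have hfE : Module.Flat E S := (hLS.of_etale (E := E)).flat
  have hfT : Module.Flat C T := hLT.flat
  let eC : T ≃ₗ[C] S :=
    { e.symm.toAddEquiv with
      map_smul' := fun c t => by
        change e.symm (c • t) = c • e.symm t
        rw [Algebra.smul_def, Algebra.smul_def, map_mul, hCS] }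
  have hfC : Module.Flat C S := Module.Flat.of_linearEquiv eC.symm
  have hfpA : Algebra.FinitePresentation A E := Algebra.FinitePresentation.trans A B E
  have hfpC : Algebra.FinitePresentation C E :=
    Algebra.FinitePresentation.of_restrict_scalars_finitePresentation A C E
  let P' : Ideal E := (maximalIdeal S).comap (algebraMap E S)
  have hP' : P'.IsPrime := Ideal.IsPrime.comap _
  have hP'B : P'.comap (algebraMap B E) = P := by
    rw [Ideal.comap_comap, ← IsScalarTower.algebraMap_eq, comap_maximalIdeal_eq P]
  have hme : ∀ t : T, e.symm t ∈ maximalIdeal S ↔ t ∈ maximalIdeal T := by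
    intro t
    rw [mem_maximalIdeal, mem_maximalIdeal, mem_nonunits_iff, mem_nonunits_iff,
      MulEquiv.isUnit_map]
  have hP'C : P'.comap (algebraMap C E) = Q := by
    rw [Ideal.comap_comap, ← IsScalarTower.algebraMap_eq]
    ext c
    rw [Ideal.mem_comap, hCS, hme, ← Ideal.mem_comap, comap_maximalIdeal_eq Q]
  have hmS : Q.map (algebraMap C S) = maximalIdeal S := by
    have h1 : Q.map (algebraMap C T) = maximalIdeal T := by
      rw [IsScalarTower.algebraMap_eq C (Localization.AtPrime Q) T, ← Ideal.map_map,
        Localization.AtPrime.map_eq_maximalIdeal, Exist.map_maximalIdeal_of_isHenselization]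
    have h2 : algebraMap C S = (e.symm : T →+* S).comp (algebraMap C T) := rfl
    rw [h2, ← Ideal.map_map, h1]
    apply le_antisymm
    · rw [Ideal.map_le_iff_le_comap]
      intro t ht
      exact (hme t).2 ht
    · intro s hs
      rw [← e.symm_apply_apply s] at hs ⊢
      exact Ideal.mem_map_of_mem (e.symm : T →+* S) ((hme _).1 hs)
  have hres : ∀ s : S, ∃ c₁ c₂ : C, c₂ ∉ Q ∧
      algebraMap C S c₂ * s - algebraMap C S c₁ ∈ maximalIdeal S := by
    intro s
    obtain ⟨r, hr⟩ := hsT (residue T (e s))
    obtain ⟨c₁, c₂, rfl⟩ := IsLocalization.exists_mk'_eq Q.primeCompl r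
    refine ⟨c₁, c₂, c₂.2, ?_⟩
    rw [hCS, hCS, ← e.symm_apply_apply s, ← map_mul, ← map_sub, hme]
    rw [RingHom.comp_apply, ← sub_eq_zero, ← map_sub, residue_eq_zero_iff] at hr
    have h1 := Ideal.mul_mem_left _ (algebraMap C T c₂) hr
    rw [mul_sub] at h1
    have h2 : algebraMap C T c₂ * algebraMap (Localization.AtPrime Q) T
        (IsLocalization.mk' (Localization.AtPrime Q) c₁ c₂) = algebraMap C T c₁ := by
      rw [IsScalarTower.algebraMap_apply C (Localization.AtPrime Q) T, ← map_mul,
        IsLocalization.mk'_spec', ← IsScalarTower.algebraMap_apply]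
    rw [h2] at h1
    rw [← neg_mem_iff, neg_sub]
    exact h1
  have hresB : ∀ s : S, ∃ b₁ b₂ : B, b₂ ∉ P ∧
      algebraMap B S b₂ * s - algebraMap B S b₁ ∈ maximalIdeal S := by
    intro s
    obtain ⟨r, hr⟩ := hsS (residue S s)
    obtain ⟨c₁, c₂, rfl⟩ := IsLocalization.exists_mk'_eq P.primeCompl r
    refine ⟨c₁, c₂, c₂.2, ?_⟩
    rw [RingHom.comp_apply, ← sub_eq_zero, ← map_sub, residue_eq_zero_iff] at hr
    have h1 := Ideal.mul_mem_left _ (algebraMap B S c₂) hr
    rw [mul_sub] at h1
    have h2 : algebraMap B S c₂ * algebraMap (Localization.AtPrime P) S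
        (IsLocalization.mk' (Localization.AtPrime P) c₁ c₂) = algebraMap B S c₁ := by
      rw [IsScalarTower.algebraMap_apply B (Localization.AtPrime P) S, ← map_mul,
        IsLocalization.mk'_spec', ← IsScalarTower.algebraMap_apply]
    rw [h2] at h1
    rw [← neg_mem_iff, neg_sub]
    exact h1
  have het : Algebra.IsEtaleAt C P' := isEtaleAt_of_local Q P' rfl hP'C hmS hres
  obtain ⟨f, hfP', hf⟩ := Algebra.exists_etale_of_isEtaleAt (R := C) P'
  -- shrink
  let E' := Localization.Away f
  have hBE' : Algebra.Etale B E' := Algebra.Etale.comp B E E'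
  have hdisj : Disjoint (Submonoid.powers f : Set E) P' := by
    rw [Set.disjoint_left]
    rintro _ ⟨n, rfl⟩ hn
    exact hfP' (hP'.mem_of_pow_mem n hn)
  let P'' : Ideal E' := P'.map (algebraMap E E')
  have hP'' : P''.IsPrime := IsLocalization.isPrime_of_isPrime_disjoint (Submonoid.powers f) _ P' hP' hdisj
  have hcm : P''.comap (algebraMap E E') = P' :=
    IsLocalization.under_map_of_isPrime_disjoint (Submonoid.powers f) _ hP' hdisj
  refine ⟨E', inferInstance, inferInstance, inferInstance, inferInstance, hBE', P'', hP'',
    (IsScalarTower.toAlgHom A E E').comp ψ, ?_, ?_, ?_, ?_⟩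
  · rw [IsScalarTower.algebraMap_eq B E E', ← Ideal.comap_comap, hcm, hP'B]
  · have h1 : (algebraMap C E').Etale := by
      rw [RingHom.etale_algebraMap]
      exact hf
    exact h1
  · change P''.comap ((algebraMap E E').comp (algebraMap C E)) = Q
    rw [← Ideal.comap_comap, hcm, hP'C]
  · intro x
    obtain ⟨y, ⟨_, ⟨n, rfl⟩⟩, rfl⟩ := IsLocalization.exists_mk'_eq (Submonoid.powers f) x
    obtain ⟨b₁, b₂, hb₂, hb⟩ := hresB (algebraMap E S y)
    obtain ⟨b₃, b₄, hb₄, hb'⟩ := hresB (algebraMap E S (f ^ n))
    rw [IsScalarTower.algebraMap_apply B E S, IsScalarTower.algebraMap_apply B E S, ← map_mul,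
      ← map_sub] at hb hb'
    have hb1 : algebraMap B E b₂ * y - algebraMap B E b₁ ∈ P' := hb
    have hb2 : algebraMap B E b₄ * f ^ n - algebraMap B E b₃ ∈ P' := hb'
    have hb₃ : b₃ ∉ P := by
      intro h
      have h1 : algebraMap B E b₃ ∈ P' := by
        rw [← Ideal.mem_comap, hP'B]
        exact h
      have h2 : algebraMap B E b₄ * f ^ n ∈ P' := by
        have := P'.add_mem hb2 h1
        rwa [sub_add_cancel] at this
      rcases hP'.mem_or_mem h2 with h3 | h3
      · rw [← Ideal.mem_comap, hP'B] at h3
        exact hb₄ h3
      · exact hfP' (hP'.mem_of_pow_mem n h3)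
    refine ⟨b₁ * b₄, b₂ * b₃, fun h => (‹P.IsPrime›.mem_or_mem h).elim hb₂ hb₃, ?_⟩
    obtain ⟨X, hXdef⟩ : ∃ X, X = IsLocalization.mk' E' y
      (⟨f ^ n, ⟨n, rfl⟩⟩ : Submonoid.powers f) := ⟨_, rfl⟩
    have hX : X * algebraMap E E' (f ^ n) = algebraMap E E' y := by
      rw [hXdef]
      exact IsLocalization.mk'_spec E' y (⟨f ^ n, ⟨n, rfl⟩⟩ : Submonoid.powers f)
    change algebraMap B E' (b₂ * b₃) * IsLocalization.mk' E' y
      (⟨f ^ n, ⟨n, rfl⟩⟩ : Submonoid.powers f) - _ ∈ _
    rw [← hXdef]
    have h1 := Ideal.mem_map_of_mem (algebraMap E E') hb1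
    have h2 := Ideal.mem_map_of_mem (algebraMap E E') hb2
    rw [map_sub, map_mul, ← IsScalarTower.algebraMap_apply, ← IsScalarTower.algebraMap_apply] at h1 h2
    have h3 : algebraMap B E' (b₂ * b₃) * X - algebraMap B E' (b₁ * b₄) =
        - (algebraMap B E' b₂ * X) *
          (algebraMap B E' b₄ * algebraMap E E' (f ^ n) - algebraMap B E' b₃) +
        algebraMap B E' b₄ * (algebraMap B E' b₂ * algebraMap E E' y - algebraMap B E' b₁) := by
      rw [← hX, map_mul, map_mul]
      ring
    rw [h3]
    exact P''.add_mem (P''.mul_mem_left _ h2) (P''.mul_mem_left _ h1)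

end Core

end Groth.Agent.Vancyc.H694.CommonEt
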