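import Groth.Agent.Vancyc.H681.NatGerm
import Groth.Agent.Vancyc.H681.ScalC
import Groth.Agent.Vancyc.H680.Model
import Groth.Agent.S0101

/-!
# Local cohomology equals global cohomology for the even split model, natural form

`bijective_HC`: the restriction `H^n(Y_Ω, ℤ/N) ⟶ H^n((Spec O^sh)_Ω, ℤ/N)`, `Y` the even split model, `O^sh` its strict
localization at the singular point of the closed fibre, is bijective for all `n`.
-/

set_option autoImplicit false
universe u
open CategoryTheory CategoryTheory.Limits AlgebraicGeometry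
open scoped Groth.Agent.Etcore.EtInst
open Groth.Agent.Etcore.EtInst Groth.Agent.Etcore.HpullCalc Groth.Agent.Etcore.HC

namespace Groth.Agent.Vancyc.H694.EvenLoc

open Groth.Agent.EtpbcB.StrictLoc Groth.Agent.Vancyc.H694.StdT Groth.Agent.Vancyc.H681.Restr
  Groth.Agent.Vancyc.H680.Model

section sq

variable {R : Type u} [CommRing R] {X P : Scheme.{u}} (f : X ⟶ Spec (CommRingCat.of R)) (g : P ⟶ X)
  (Ω : Type u) [Field Ω] [Algebra R Ω]

theorem isPullback_fibX :
    IsPullback (fibX Ω f g) (VanCyc.jA R (g ≫ f) Ω) (VanCyc.jA R f Ω) g := by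
  have h1 : IsPullback (VanCyc.fibStr R f Ω) (VanCyc.jA R f Ω) (VanCyc.toS R Ω) f :=
    (IsPullback.of_hasPullback f (VanCyc.toS R Ω)).flip
  have h2 : IsPullback (fibX Ω f g ≫ VanCyc.fibStr R f Ω) (VanCyc.jA R (g ≫ f) Ω)
      (VanCyc.toS R Ω) (g ≫ f) := by
    rw [fibX_fibStr]
    exact (IsPullback.of_hasPullback (g ≫ f) (VanCyc.toS R Ω)).flip
  exact IsPullback.of_right h2 (fibX_jA f g) h1

end sq

variable (R : Type u) [CommRing R] [IsDomain R] [IsDiscreteValuationRing R] [HenselianLocalRing R]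
  [IsSepClosed (IsLocalRing.ResidueField R)] (m : ℕ) (b c : R) {N : ℕ} (hN : IsUnit (N : R))
  (Ω : Type u) [Field Ω] [IsSepClosed Ω] [Algebra R Ω]

include hN in
/-- **Local = global for the even model, natural form.** -/
theorem bijective_HC (hΔ0 : b ^ 2 - 4 * c ≠ 0) (hΔ : b ^ 2 - 4 * c ∈ IsLocalRing.maximalIdeal R)
    (n : ℕ) : Function.Bijective (HC (ZMod N)
      (fibX Ω (modelEven R m b c) (toBase (ptEven R m b c))) n) := by
  rw [bijective_HC_iff]
  have hsq : IsPullback (VanCyc.fibStr R (modelEven R m b c) Ω) (VanCyc.jA R (modelEven R m b c) Ω)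
      (VanCyc.toS R Ω) (modelEven R m b c) := (IsPullback.of_hasPullback _ _).flip
  exact Groth.Agent.Vancyc.H681.NatGerm.bijective_hp (VanCyc.jA R (modelEven R m b c) Ω)
    (ptEven R m b c) (isPullback_fibX (modelEven R m b c) (toBase (ptEven R m b c)) Ω)
    (EtCoh.const _ (ZMod N)) (fun q => good_Rpush_even R m b c hN hΔ0 hΔ hsq q) n

end Groth.Agent.Vancyc.H694.EvenLoc
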