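import Groth.Agent.Vancyc.H694.ModelEven
import Mathlib.AlgebraicGeometry.Pullbacks

/-!
# The geometric closed fibre of the even split model is a cone

For `R ⟶ L` killing `b` and `δ ∈ L` with `δ² = -c`, `2 δ = 0`, the base change of the even model to `L` is
`x_0² + ∑ x_i x_{m+i} = 0`.
-/

set_option autoImplicit false
universe u
open CategoryTheory CategoryTheory.Limits AlgebraicGeometry IsLocalRing VanCyc

namespace Groth.Agent.Vancyc.H694.ModelCone

open Groth.Agent.Vancyc.H694.StdT Groth.Agent.Vancyc.H694.ModelEven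

variable {R : Type u} [CommRing R] [IsLocalRing R] {m : ℕ} {b c : R}

/-- Homomorphisms out of the model. -/
noncomputable def lift {D : Type u} [CommRing D] [Algebra R D] (z : Fin (2 * m + 1) → D)
    (hz : z 0 ^ 2 + algebraMap R D b * z 0 + algebraMap R D c +
        ∑ i, z (Fin.succ (lo m i)) * z (Fin.succ (hi m i)) = 0) : Bm R m b c →ₐ[R] D :=
  Ideal.Quotient.liftₐ _ (MvPolynomial.aeval z) (by
    have h1 : Ideal.span {degQuadPoly R (stdT R m) b c} ≤ RingHom.ker (MvPolynomial.aeval z :
        MvPolynomial (Fin (2 * m + 1)) R →ₐ[R] D) := by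
      rw [Ideal.span_le, Set.singleton_subset_iff]
      exact (aeval_degQuadPoly R m b c z).trans hz
    exact fun a ha => h1 ha)

theorem lift_dx {D : Type u} [CommRing D] [Algebra R D] (z : Fin (2 * m + 1) → D)
    (hz : z 0 ^ 2 + algebraMap R D b * z 0 + algebraMap R D c +
        ∑ i, z (Fin.succ (lo m i)) * z (Fin.succ (hi m i)) = 0) (j : Fin (2 * m + 1)) :
    lift z hz (dx R m b c j) = z j := MvPolynomial.aeval_X z j

theorem ext {D : Type u} [CommRing D] [Algebra R D] {f g : Bm R m b c →ₐ[R] D}
    (h : ∀ j, f (dx R m b c j) = g (dx R m b c j)) : f = g := by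
  apply Ideal.Quotient.algHom_ext
  apply MvPolynomial.algHom_ext
  exact h

/-- Pushouts of commutative rings by their universal property. -/
theorem isPushout_of_univ {R A B C : Type u} [CommRing R] [CommRing A] [CommRing B] [CommRing C]
    (f : R →+* A) (g : R →+* B) (i : A →+* C) (j : B →+* C) (w : i.comp f = j.comp g)
    (H : ∀ (D : Type u) [CommRing D] (u : A →+* D) (v : B →+* D), u.comp f = v.comp g →
      ∃! h : C →+* D, h.comp i = u ∧ h.comp j = v) :
    IsPushout (CommRingCat.ofHom f) (CommRingCat.ofHom g) (CommRingCat.ofHom i)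
      (CommRingCat.ofHom j) := by
  have H' : ∀ s : PushoutCocone (CommRingCat.ofHom f) (CommRingCat.ofHom g),
      ∃! h : C →+* s.pt, h.comp i = s.inl.hom ∧ h.comp j = s.inr.hom := fun s =>
    H s.pt s.inl.hom s.inr.hom (congrArg CommRingCat.Hom.hom s.condition)
  refine ⟨⟨?_⟩, ⟨PushoutCocone.IsColimit.mk _ (fun s => CommRingCat.ofHom (H' s).choose)
    (fun s => ?_) (fun s => ?_) (fun s ψ h1 h3 => ?_)⟩⟩
  · rw [← CommRingCat.ofHom_comp, ← CommRingCat.ofHom_comp, w]
  · apply CommRingCat.hom_ext
    exact (H' s).choose_spec.1.1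
  · apply CommRingCat.hom_ext
    exact (H' s).choose_spec.1.2
  · apply CommRingCat.hom_ext
    exact (H' s).choose_spec.2 ψ.hom ⟨congrArg CommRingCat.Hom.hom h1, congrArg CommRingCat.Hom.hom h3⟩

section cone

variable {L : Type u} [Field L] [Algebra R L] (hb : algebraMap R L b = 0) (δ : L)
  (hδ : δ ^ 2 + algebraMap R L c = 0) (h2 : 2 * δ = 0)

/-- The coordinates on the cone. -/
noncomputable def coords (m : ℕ) : Fin (2 * m + 1) → Bm L m 0 0 :=
  Fin.cons (dx L m 0 0 0 + algebraMap L _ δ) fun i => dx L m 0 0 (Fin.succ i)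

include hb hδ h2 in
theorem coords_rel : coords δ m 0 ^ 2 + algebraMap R (Bm L m 0 0) b * coords δ m 0 +
    algebraMap R (Bm L m 0 0) c +
        ∑ i, coords δ m (Fin.succ (lo m i)) * coords δ m (Fin.succ (hi m i)) = 0 := by
  have e1 : algebraMap R (Bm L m 0 0) b = 0 := by
    rw [IsScalarTower.algebraMap_apply R L (Bm L m 0 0), hb, map_zero]
  have e2 : algebraMap R (Bm L m 0 0) c = - algebraMap L (Bm L m 0 0) δ ^ 2 := by
    rw [IsScalarTower.algebraMap_apply R L (Bm L m 0 0), ← map_pow, ← map_neg]
    congr 1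
    linear_combination hδ
  have e3 : (2 : Bm L m 0 0) * algebraMap L (Bm L m 0 0) δ = 0 := by
    rw [← map_ofNat (algebraMap L (Bm L m 0 0)) 2, ← map_mul, h2, map_zero]
  have e4 := rel L m 0 0
  rw [map_zero, zero_mul, add_zero, add_zero] at e4
  rw [e1, e2]
  change (dx L m 0 0 0 + algebraMap L _ δ) ^ 2 + 0 * (dx L m 0 0 0 + algebraMap L _ δ) + _ +
    ∑ i, dx L m 0 0 (Fin.succ (lo m i)) * dx L m 0 0 (Fin.succ (hi m i)) = 0
  linear_combination e4 + dx L m 0 0 0 * e3

/-- The homomorphism to the coordinate ring of the cone. -/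
noncomputable def toCone : Bm R m b c →ₐ[R] Bm L m 0 0 := lift (coords δ m) (coords_rel hb δ hδ h2)

theorem toCone_dx_zero : toCone hb δ hδ h2 (dx R m b c 0) = dx L m 0 0 0 + algebraMap L _ δ :=
  lift_dx _ _ _

theorem toCone_dx_succ (i : Fin (2 * m)) :
    toCone hb δ hδ h2 (dx R m b c (Fin.succ i)) = dx L m 0 0 (Fin.succ i) :=
  lift_dx _ _ _

theorem isPushout : IsPushout (CommRingCat.ofHom (algebraMap R L))
    (CommRingCat.ofHom (algebraMap R (Bm R m b c))) (CommRingCat.ofHom (algebraMap L (Bm L m 0 0)))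
    (CommRingCat.ofHom (toCone (m := m) hb δ hδ h2 : Bm R m b c →+* Bm L m 0 0)) := by
  refine isPushout_of_univ _ _ _ _ ?_ fun D _ u v huv => ?_
  · rw [(toCone (m := m) hb δ hδ h2).comp_algebraMap]
    exact (IsScalarTower.algebraMap_eq R L (Bm L m 0 0)).symm
  · let _ : Algebra L D := u.toAlgebra
    let _ : Algebra R D := (u.comp (algebraMap R L)).toAlgebra
    have hRLD : IsScalarTower R L D := IsScalarTower.of_algebraMap_eq fun _ => rfl
    let v' : Bm R m b c →ₐ[R] D := { v with commutes' := fun r => (RingHom.congr_fun huv r).symm }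
    have hv' : ∀ x, v' x = v x := fun _ => rfl
    let z : Fin (2 * m + 1) → D := Fin.cons (v (dx R m b c 0) - algebraMap L D δ)
      fun i => v (dx R m b c (Fin.succ i))
    have hz : z 0 ^ 2 + algebraMap L D 0 * z 0 + algebraMap L D 0 +
        ∑ i, z (Fin.succ (lo m i)) * z (Fin.succ (hi m i)) = 0 := by
      have e1 := congrArg v (rel R m b c)
      simp only [map_add, map_mul, map_pow, map_sum, map_zero] at e1
      have e2 : ∀ r, v (algebraMap R _ r) = algebraMap L D (algebraMap R L r) := fun r =>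
        (RingHom.congr_fun huv r).symm
      rw [e2, e2, hb, map_zero, zero_mul, add_zero] at e1
      have e3 : algebraMap L D δ ^ 2 + algebraMap L D (algebraMap R L c) = 0 := by
        rw [← map_pow, ← map_add, hδ, map_zero]
      have e4 : (2 : D) * algebraMap L D δ = 0 := by
        rw [← map_ofNat (algebraMap L D) 2, ← map_mul, h2, map_zero]
      rw [map_zero, zero_mul, add_zero, add_zero]
      change (v (dx R m b c 0) - algebraMap L D δ) ^ 2 +
        ∑ i, v (dx R m b c (Fin.succ (lo m i))) * v (dx R m b c (Fin.succ (hi m i))) = 0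
      linear_combination e1 - e3 + (algebraMap L D δ - v (dx R m b c 0)) * e4
    refine ⟨(lift z hz : Bm L m 0 0 →ₐ[L] D), ⟨(lift z hz).comp_algebraMap, ?_⟩, ?_⟩
    · have e5 : ((lift z hz : Bm L m 0 0 →ₐ[L] D).restrictScalars R).comp
          (toCone (m := m) hb δ hδ h2) = v' := by
        apply ext
        intro j
        rw [AlgHom.comp_apply, AlgHom.restrictScalars_apply]
        refine Fin.cases ?_ (fun i => ?_) j
        · rw [toCone_dx_zero, map_add, lift_dx, AlgHom.commutes, hv']
          change v (dx R m b c 0) - algebraMap L D δ + _ = _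
          ring
        · rw [toCone_dx_succ, lift_dx, hv']
          rfl
      exact congrArg (fun φ : Bm R m b c →ₐ[R] D => (φ : Bm R m b c →+* D)) e5
    · rintro φ ⟨h3, h4⟩
      let φ' : Bm L m 0 0 →ₐ[L] D := { φ with commutes' := fun r => RingHom.congr_fun h3 r }
      have h5 : φ' = lift z hz := by
        apply ext
        intro j
        rw [lift_dx]
        change φ _ = _
        refine Fin.cases ?_ (fun i => ?_) j
        · have h6 : dx L m 0 0 0 = toCone (m := m) hb δ hδ h2 (dx R m b c 0) -
              algebraMap L _ δ := by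
            rw [toCone_dx_zero]
            ring
          rw [h6, map_sub]
          have h7 : φ (algebraMap L _ δ) = algebraMap L D δ := RingHom.congr_fun h3 δ
          have h8 : φ (toCone (m := m) hb δ hδ h2 (dx R m b c 0)) = v (dx R m b c 0) :=
            RingHom.congr_fun h4 _
          rw [h7, h8]
          rfl
        · have h6 : dx L m 0 0 (Fin.succ i) =
              toCone (m := m) hb δ hδ h2 (dx R m b c (Fin.succ i)) := (toCone_dx_succ _ _ _ _ _).symm
          rw [h6]
          exact RingHom.congr_fun h4 _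
      exact congrArg (fun ψ : Bm L m 0 0 →ₐ[L] D => (ψ : Bm L m 0 0 →+* D)) h5

end cone

section hom

variable (L : Type u) [Field L] (m : ℕ)

theorem degQuadPoly_zero : degQuadPoly L (stdT L m) 0 0 =
    MvPolynomial.X 0 ^ 2 + ∑ i, MvPolynomial.X (Fin.succ (lo m i)) * MvPolynomial.X (Fin.succ (hi m i)) := by
  unfold degQuadPoly
  rw [quadPoly_stdT]
  simp only [map_zero, zero_mul, add_zero, map_sum, map_mul, MvPolynomial.rename_X]

theorem isHomogeneous : (degQuadPoly L (stdT L m) 0 0).IsHomogeneous 2 := by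
  rw [degQuadPoly_zero]
  refine (MvPolynomial.isHomogeneous_X_pow 0 2).add
    (MvPolynomial.IsHomogeneous.sum _ _ _ fun i _ => ?_)
  exact (MvPolynomial.isHomogeneous_X L _).mul (MvPolynomial.isHomogeneous_X L _)

/-- The vertex of the cone. -/
noncomputable def vertex : Bm L m 0 0 →ₐ[L] L := lift (fun _ => 0) (by simp)

theorem vertex_dx (j : Fin (2 * m + 1)) : vertex L m (dx L m 0 0 j) = 0 := lift_dx _ _ _

end hom

end Groth.Agent.Vancyc.H694.ModelCone
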