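import Groth.Agent.Etcore.HpVia
import Groth.Agent.Etcore.HpullViaEq
import Groth.Agent.Etcore.HpullEq
import Groth.Prelude.Def_VanCyc

/-!
# Endomorphisms acting by a scalar on cohomology

`Sc m t wt G q e`: the relative pull-back along `m : M ⟶ M` (`m ≫ t = t`) is multiplication by `e` on
`H^q(M, t⁻¹ G)`.
* `Sc.of_iso`, `sc_th_iff` (change of coefficients), `Sc.of_surjective` (transport along a surjective pull-back);
* `sc_galH_iff`: for `VanCyc.galH`.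
-/

set_option autoImplicit false
universe u
open CategoryTheory CategoryTheory.Limits AlgebraicGeometry
open scoped Groth.Agent.Etcore.EtInst
open Groth.Agent.Etcore.EtInst Groth.Agent.Etcore.HpullCalc Groth.Agent.Etcore.HpVia
  Groth.Agent.Etcore.PullCoh

namespace Groth.Agent.Vancyc.H694.Scal

attribute [local instance] Groth.Agent.S0101.result

variable {M M' P Z : Scheme.{u}}

/-- The relative pull-back along `m` is multiplication by `e` on `H^q(M, t⁻¹ G)`. -/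
def Sc (m : M ⟶ M) (t : M ⟶ Z) (wt : m ≫ t = t) (G : EtCoh.Ab Z) (q : ℕ) (e : ℤ) : Prop :=
  ∀ x : HH M ((EtCoh.pull t).obj G) q, hpVia m t t wt G q x = e • x

theorem Sc.of_iso {m : M ⟶ M} {t : M ⟶ Z} {wt : m ≫ t = t} {G G' : EtCoh.Ab Z} {q : ℕ} {e : ℤ}
    (h : Sc m t wt G q e) (φ : G ≅ G') : Sc m t wt G' q e := by
  intro x
  have h1 := hpVia_map m t t wt φ.inv q x
  rw [h, ← map_zsmul] at h1
  exact ((HHmap_bijective _ q).1 h1).symm

theorem sc_iso_iff {m : M ⟶ M} {t : M ⟶ Z} {wt : m ≫ t = t} {G G' : EtCoh.Ab Z} {q : ℕ} {e : ℤ}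
    (φ : G ≅ G') : Sc m t wt G q e ↔ Sc m t wt G' q e := ⟨fun h => h.of_iso φ, fun h => h.of_iso φ.symm⟩

theorem sc_th_iff {m : M ⟶ M} (j : M ⟶ P) (p : P ⟶ Z) (t : M ⟶ Z) (w : j ≫ p = t)
    (wj : m ≫ j = j) (wt : m ≫ t = t) (G : EtCoh.Ab Z) (q : ℕ) (e : ℤ) :
    Sc m t wt G q e ↔ Sc m j wj ((EtCoh.pull p).obj G) q e := by
  have h1 := hpVia_HHmap_th m j p j t t wj w wt w G q
  have hb := HHmap_bijective (th j p t w G) q
  constructor
  · intro h x
    have h2 := h1 x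
    rw [h, ← map_zsmul] at h2
    exact (hb.1 h2).symm
  · intro h x
    obtain ⟨y, rfl⟩ := hb.2 x
    rw [h1, h, map_zsmul]

theorem Sc.of_surjective {m : M ⟶ M} {m' : M' ⟶ M'} (r : M ⟶ M') {t : M ⟶ Z} {t' : M' ⟶ Z}
    (w : r ≫ t' = t) {wt : m ≫ t = t} {wt' : m' ≫ t' = t'} (hr : m ≫ r = r ≫ m') {G : EtCoh.Ab Z}
    {q : ℕ} {e : ℤ} (hs : Function.Surjective (hp r ((EtCoh.pull t').obj G) q))
    (h : Sc m' t' wt' G q e) : Sc m t wt G q e := by
  intro x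
  obtain ⟨y, rfl⟩ := (surjective_hpVia_iff r t' t w G q).2 hs x
  have w4 : (m ≫ r) ≫ t' = t := by rw [Category.assoc, w, wt]
  have e1 := hpVia_hpVia m r t' (m ≫ r) t t rfl w wt w4 G q y
  have e2 := hpVia_hpVia r m' t' (m ≫ r) t' t hr.symm wt' w w4 G q y
  rw [e1, ← e2, h, map_zsmul]

section gal

variable {R : Type u} [CommRing R] {K : Type u} [Field K] [Algebra R K] {Ω : Type u} [Field Ω]
  [Algebra K Ω] [Algebra R Ω] [IsScalarTower R K Ω]
  {X : Scheme.{u}} (f : X ⟶ Spec (CommRingCat.of R))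

theorem sc_of_galH (σ : Ω ≃ₐ[K] Ω) [PreservesFiniteLimits (EtCoh.pull (VanCyc.galGeom f σ))]
    (F : EtCoh.Ab X) (q : ℕ) (e : ℤ)
    (h : ∀ a, VanCyc.galH f σ F q a = e • a) :
    Sc (VanCyc.galGeom f σ) (VanCyc.jA R f Ω) (VanCyc.galGeom_jA f σ) F q e := by
  intro x
  have h1 := h x
  have h2 := HpullVia_apply_eq_hpVia (VanCyc.galGeom f σ) (VanCyc.jA R f Ω) (VanCyc.jA R f Ω)
    (VanCyc.galGeom_jA f σ) F q x
  exact h2.symm.trans h1

end gal

end Groth.Agent.Vancyc.H694.Scal
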